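import Groth.Agent.LimModLib.Props

/-!
# Pullbacks of finitely presented modules
-/

set_option autoImplicit false
set_option backward.isDefEq.respectTransparency false
set_option backward.isDefEq.respectTransparency.types false

universe u

open CategoryTheory CategoryTheory.Limits AlgebraicGeometry Opposite TopologicalSpace

namespace Groth.Agent.LimModLib

variable {X Y : Scheme.{u}}

theorem isFT_of_isFP {M : X.Modules} (hM : Coh.IsQCoh M) (hfp : CohB1.IsFP M) : CohB1.IsFT M :=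
  (QCoh.isFT_iff hM).2 fun U => haveI := QCoh.finitePresentation_of_isFP hfp U.2; inferInstance

theorem isFP_pullback (f : Y ⟶ X) {M : X.Modules} (hM : Coh.IsQCoh M) (hfp : CohB1.IsFP M) :
    CohB1.IsFP ((Scheme.Modules.pullback f).obj M) := by
  let ι := {p : Y.affineOpens × X.affineOpens // (p.1.1 : Y.Opens) ≤ f ⁻¹ᵁ p.2.1}
  refine QCoh.isFP_of_finitePresentation (QCoh.isQCoh_pullback f hM) (fun i : ι => i.1.1.1) ?_ (fun i => i.1.1.2)
    fun i => ?_
  · exact top_le_iff.1 fun y _ => Opens.mem_iSup.2 <| by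
      obtain ⟨_, ⟨U, hU, rfl⟩, hxU, -⟩ :=
        X.isBasis_affineOpens.exists_subset_of_mem_open (Set.mem_univ (f y)) isOpen_univ
      obtain ⟨_, ⟨W, hW, rfl⟩, hyW, hWU⟩ :=
        Y.isBasis_affineOpens.exists_subset_of_mem_open (show y ∈ f ⁻¹ᵁ U from hxU) (f ⁻¹ᵁ U).2
      exact ⟨⟨(⟨W, hW⟩, ⟨U, hU⟩), hWU⟩, hyW⟩
  · obtain ⟨⟨⟨W, hW⟩, ⟨U, hU⟩⟩, hWU⟩ := i
    haveI := finitePresentation_chartΓ hfp hU
    let g := f.appLE U W hWU
    haveI : IsIso (M.restrict hU.fromSpec).fromTildeΓ :=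
      (isQuasicoherent_iff_isIso_fromTildeΓ _).1 (QCoh.isQCoh_restrict hU.fromSpec hM)
    let N := (Scheme.Modules.pullback f).obj M
    let P := (ModuleCat.extendScalars.{_, _, u} g.hom).obj ((chartΓ hU).obj M)
    let e₁ : N.restrict hW.fromSpec ≅ tilde P :=
      QCoh.pullbackChartIso g f (j := hW.fromSpec) (i := hU.fromSpec) (QCoh.exists_chart_map f hU hW hWU) M ≪≫
      (Scheme.Modules.pullback (Spec.map g)).mapIso (asIso (M.restrict hU.fromSpec).fromTildeΓ).symm ≪≫
      (QCoh.tildePullbackIso g).app _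
    haveI : Module.FinitePresentation Γ(Y, W) P := by
      letI := g.hom.toAlgebra
      exact inferInstanceAs (Module.FinitePresentation Γ(Y, W)
        (TensorProduct Γ(X, U) Γ(Y, W) ((chartΓ hU).obj M)))
    let e₂ : Γ(N, W) ≃ₗ[Γ(Y, W)] P := (QCoh.chartEquiv hW N).trans
      ((moduleSpecΓFunctor.mapIso e₁ ≪≫ (tilde.toTildeΓNatIso.app P).symm).toLinearEquiv)
    exact Module.FinitePresentation.of_equiv e₂.symm

end Groth.Agent.LimModLib
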