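import Groth.Agent.LimModLib.Props
import Mathlib.AlgebraicGeometry.Morphisms.Flat
import Groth.Agent.QCoh.Stalk
import Mathlib.LinearAlgebra.TensorProduct.Quotient

/-!
# Properties of morphisms of modules descend along jointly surjective families of flat morphisms
-/

set_option autoImplicit false
set_option backward.isDefEq.respectTransparency false
set_option backward.isDefEq.respectTransparency.types false

universe u

open CategoryTheory CategoryTheory.Limits AlgebraicGeometry Opposite TopologicalSpace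
open scoped TensorProduct

namespace Groth.Agent.LimModLib

/-- An element killed by a jointly faithfully flat family is zero. -/
theorem eq_zero_of_flat_family {A M : Type u} [CommRing A] [AddCommGroup M] [Module A M] {ι : Type*}
    (B : ι → Type u) [∀ j, CommRing (B j)] [∀ j, Algebra A (B j)] [∀ j, Module.Flat A (B j)]
    (hcov : ∀ p : PrimeSpectrum A, ∃ (j : ι) (P : PrimeSpectrum (B j)), PrimeSpectrum.comap (algebraMap A (B j)) P = p)
    (m : M) (h : ∀ j, (1 : B j) ⊗ₜ[A] m = 0) : m = 0 := by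
  let I : Ideal A := LinearMap.ker (LinearMap.toSpanSingleton A M m)
  by_contra hm
  have hI : I ≠ ⊤ := fun e => hm <| by
    have h0 : (LinearMap.toSpanSingleton A M m) 1 = 0 := LinearMap.mem_ker.1 (e ▸ Submodule.mem_top : (1 : A) ∈ I)
    simpa using h0
  obtain ⟨p, hp, hle⟩ := Ideal.exists_le_maximal I hI
  obtain ⟨j, P, hP⟩ := hcov ⟨p, hp.isPrime⟩
  let ev : (A ⧸ I) →ₗ[A] M := Submodule.liftQ I (LinearMap.toSpanSingleton A M m) le_rfl
  have hev : Function.Injective ev := LinearMap.ker_eq_bot.1 (Submodule.ker_liftQ_eq_bot _ _ _ le_rfl)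
  have hinj := Module.Flat.lTensor_preserves_injective_linearMap (M := B j) ev hev
  have hz : (1 : B j) ⊗ₜ[A] (Ideal.Quotient.mk I 1) = 0 := hinj (by
    rw [map_zero, LinearMap.lTensor_tmul]
    show (1 : B j) ⊗ₜ[A] ((LinearMap.toSpanSingleton A M m) 1) = 0
    simpa using h j)
  have h1 := congrArg (TensorProduct.tensorQuotEquivQuotSMul (B j) I) hz
  rw [TensorProduct.tensorQuotEquivQuotSMul_tmul_mk, map_zero, Submodule.Quotient.mk_eq_zero, one_smul] at h1
  refine P.2.ne_top ((Ideal.eq_top_iff_one _).2 ?_)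
  have : I • (⊤ : Submodule A (B j)) ≤ P.asIdeal.restrictScalars A := Submodule.smul_le.2 fun a ha b _ => by
    have := hle ha
    rw [← show PrimeSpectrum.asIdeal (PrimeSpectrum.comap (algebraMap A (B j)) P) = p from congrArg _ hP] at this
    show a • b ∈ P.asIdeal
    rw [Algebra.smul_def]
    exact P.asIdeal.mul_mem_right b this
  exact this h1

variable {X : Scheme.{u}}

/-- A morphism of quasi-coherent modules on a chart. -/
theorem nonempty_arrowIso_chart {U : X.Opens} (hU : IsAffineOpen U) {M N : X.Modules} (hM : Coh.IsQCoh M)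
    (hN : Coh.IsQCoh N) (d : M ⟶ N) :
    Nonempty (Arrow.mk ((Scheme.Modules.restrictFunctor hU.fromSpec).map d) ≅
      Arrow.mk (tilde.map ((chartΓ hU).map d))) := by
  haveI hM' : IsIso (M.restrict hU.fromSpec).fromTildeΓ :=
    (isQuasicoherent_iff_isIso_fromTildeΓ _).1 (QCoh.isQCoh_restrict _ hM)
  haveI hN' : IsIso (N.restrict hU.fromSpec).fromTildeΓ :=
    (isQuasicoherent_iff_isIso_fromTildeΓ _).1 (QCoh.isQCoh_restrict _ hN)
  exact ⟨(Arrow.isoMk (@asIso _ _ _ _ (M.restrict hU.fromSpec).fromTildeΓ hM')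
    (@asIso _ _ _ _ (N.restrict hU.fromSpec).fromTildeΓ hN')
    (Scheme.Modules.fromTildeΓNatTrans.naturality ((Scheme.Modules.restrictFunctor hU.fromSpec).map d)).symm).symm⟩

theorem affine_cover (X : Scheme.{u}) (x : X) : ∃ U : X.affineOpens, x ∈ Set.range U.2.fromSpec.base := by
  obtain ⟨_, ⟨U, hU, rfl⟩, hx, -⟩ := X.isBasis_affineOpens.exists_subset_of_mem_open (Set.mem_univ x) isOpen_univ
  exact ⟨⟨U, hU⟩, by rw [IsAffineOpen.range_fromSpec]; exact hx⟩

section Tilde

variable {A : CommRingCat.{u}} {M N : ModuleCat.{u} A} (f : M ⟶ N)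

theorem tilde_eq_zero_iff : tilde.map f = 0 ↔ f.hom = 0 := by
  rw [show tilde.map f = (tilde.functor A).map f from rfl, Functor.map_eq_zero_iff, ModuleCat.hom_ext_iff]
  exact Iff.rfl

theorem tilde_epi_iff : Epi (tilde.map f) ↔ Function.Surjective f.hom :=
  Iff.trans ⟨fun h => (tilde.functor A).epi_of_epi_map h, fun _ => inferInstanceAs (Epi ((tilde.functor A).map f))⟩
    (ModuleCat.epi_iff_surjective _)

theorem tilde_mono_iff : Mono (tilde.map f) ↔ Function.Injective f.hom :=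
  Iff.trans ⟨fun h => (tilde.functor A).mono_of_mono_map h, fun _ => inferInstanceAs (Mono ((tilde.functor A).map f))⟩
    (ModuleCat.mono_iff_injective _)

end Tilde

section Family

variable {ι : Type u} {Y : ι → Scheme.{u}} (a : ∀ k, Y k ⟶ X)
  (hsurj : ∀ x : X, ∃ k, x ∈ Set.range (a k).base) {M N : X.Modules} (hM : Coh.IsQCoh M) (hN : Coh.IsQCoh N)
  (d : M ⟶ N)

/-- The affines of the family over an affine open. -/
abbrev Above (U : X.Opens) := Σ k : ι, {W : (Y k).affineOpens // (W.1 : (Y k).Opens) ≤ a k ⁻¹ᵁ U}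

noncomputable instance aboveAlg (U : X.Opens) (w : Above a U) : Algebra Γ(X, U) Γ(Y w.1, w.2.1.1) :=
  ((a w.1).appLE U w.2.1.1 w.2.2).hom.toAlgebra

theorem aboveFlat [∀ k, Flat (a k)] {U : X.Opens} (hU : IsAffineOpen U) (w : Above a U) :
    Module.Flat Γ(X, U) Γ(Y w.1, w.2.1.1) :=
  (a w.1).flat_appLE hU w.2.1.2 w.2.2

include hsurj in
theorem aboveCover {U : X.Opens} (hU : IsAffineOpen U) (p : PrimeSpectrum Γ(X, U)) :
    ∃ (w : Above a U) (P : PrimeSpectrum Γ(Y w.1, w.2.1.1)),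
      PrimeSpectrum.comap (algebraMap Γ(X, U) Γ(Y w.1, w.2.1.1)) P = p := by
  obtain ⟨x, hx, rfl⟩ := QCoh.exists_point hU p
  obtain ⟨k, y, rfl⟩ := hsurj x
  obtain ⟨W, hW, hyW, hle⟩ := exists_isAffineOpen_mem_and_subset (x := y) (U := a k ⁻¹ᵁ U) hx
  refine ⟨⟨k, ⟨W, hW⟩, hle⟩, hW.primeIdealOf ⟨y, hyW⟩, PrimeSpectrum.ext (Ideal.ext fun r => ?_)⟩
  show (a k).appLE U W hle r ∈ (hW.primeIdealOf ⟨y, hyW⟩).asIdeal ↔ _
  rw [← not_iff_not, ← QCoh.mem_basicOpen_iff_notMem hW hyW, Scheme.basicOpen_appLE,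
    ← QCoh.mem_basicOpen_iff_notMem hU hx]
  exact ⟨fun h => h.2, fun h => ⟨hyW, h⟩⟩

include hM hN in
/-- The chart form of a property of a pullback. -/
theorem chart_of_pullback (Z : ChartProp.{u}) (hres : ∀ {S : Scheme.{u}} {V : Scheme.{u}} (j : V ⟶ S) [IsOpenImmersion j]
      {A B : S.Modules} (g : A ⟶ B), Z.P g → Z.P ((Scheme.Modules.restrictFunctor j).map g))
    (h : ∀ k, Z.P ((Scheme.Modules.pullback (a k)).map d)) {U : X.Opens} (hU : IsAffineOpen U) (w : Above a U) :
    Z.Q Γ(X, U) Γ(Y w.1, w.2.1.1) ((chartΓ hU).map d).hom := by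
  obtain ⟨e⟩ := nonempty_arrowIso (a w.1) hU w.2.1.2 w.2.2 hM hN d
  exact (Z.tilde _ _).1 ((Z.iso _ _ e).1 (hres _ _ (h w.1)))

variable [∀ k, Flat (a k)]

include hsurj hM hN in
theorem eq_zero_of_flat_cover (h : ∀ k, (Scheme.Modules.pullback (a k)).map d = 0) : d = 0 := by
  refine eq_zero_of_restrict (fun U : X.affineOpens => U.2.fromSpec) (fun x => affine_cover X x) d fun U => ?_
  obtain ⟨e⟩ := nonempty_arrowIso_chart U.2 hM hN d
  refine (eq_zero_iff_of_arrowIso _ _ e).2 ((tilde_eq_zero_iff _).2 (LinearMap.ext fun m => ?_))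
  haveI := aboveFlat a U.2
  refine eq_zero_of_flat_family (fun w : Above a U.1 => Γ(Y w.1, w.2.1.1)) (aboveCover a hsurj U.2) _ fun w => ?_
  exact LinearMap.congr_fun (chart_of_pullback a hM hN d zeroProp
    (fun j _ _ _ g hg => by show (Scheme.Modules.restrictFunctor j).map g = 0; rw [show g = 0 from hg, Functor.map_zero])
    h U.2 w) (1 ⊗ₜ m)

include hsurj hM hN in
theorem epi_of_flat_cover (h : ∀ k, Epi ((Scheme.Modules.pullback (a k)).map d)) : Epi d := by
  refine (epi_iff_restrict (fun U : X.affineOpens => U.2.fromSpec) (fun x => affine_cover X x) d).2 fun U => ?_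
  obtain ⟨e⟩ := nonempty_arrowIso_chart U.2 hM hN d
  refine ((MorphismProperty.epimorphisms _).arrow_mk_iso_iff e).2 ((tilde_epi_iff _).2 ?_)
  haveI := aboveFlat a U.2
  let f := ((chartΓ U.2).map d).hom
  show Function.Surjective f
  rw [← LinearMap.range_eq_top, eq_top_iff]
  intro n _
  rw [← Submodule.Quotient.mk_eq_zero]
  refine eq_zero_of_flat_family (fun w : Above a U.1 => Γ(Y w.1, w.2.1.1)) (aboveCover a hsurj U.2) _ fun w => ?_
  have hs : Function.Surjective (f.lTensor Γ(Y w.1, w.2.1.1)) := chart_of_pullback a hM hN d epiProp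
    (fun j _ _ _ g hg => haveI : Epi g := hg; inferInstanceAs (Epi ((Scheme.Modules.restrictFunctor j).map g)))
    h U.2 w
  obtain ⟨z, hz⟩ := hs (1 ⊗ₜ n)
  show (LinearMap.range f).mkQ.lTensor _ (1 ⊗ₜ n) = 0
  rw [← hz, ← LinearMap.comp_apply, ← LinearMap.lTensor_comp,
    show (LinearMap.range f).mkQ.comp f = 0 from LinearMap.range_mkQ_comp f, LinearMap.lTensor_zero,
    LinearMap.zero_apply]

/-- Injectivity. -/
theorem monoRes : ∀ {S : Scheme.{u}} {V : Scheme.{u}} (j : V ⟶ S) [IsOpenImmersion j]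
    {A B : S.Modules} (g : A ⟶ B), Mono g → Mono ((Scheme.Modules.restrictFunctor j).map g) :=
  fun j _ _ _ g hg => haveI := hg; inferInstanceAs (Mono ((Scheme.Modules.restrictFunctor j).map g))

include hsurj hM hN in
theorem mono_of_flat_cover (h : ∀ k, Mono ((Scheme.Modules.pullback (a k)).map d)) : Mono d := by
  refine (mono_iff_restrict (fun U : X.affineOpens => U.2.fromSpec) (fun x => affine_cover X x) d).2 fun U => ?_
  obtain ⟨e⟩ := nonempty_arrowIso_chart U.2 hM hN d
  refine ((MorphismProperty.monomorphisms _).arrow_mk_iso_iff e).2 ((tilde_mono_iff _).2 ?_)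
  haveI := aboveFlat a U.2
  let f := ((chartΓ U.2).map d).hom
  refine (injective_iff_map_eq_zero f).2 fun m hm => ?_
  refine eq_zero_of_flat_family (fun w : Above a U.1 => Γ(Y w.1, w.2.1.1)) (aboveCover a hsurj U.2) _ fun w => ?_
  obtain ⟨e'⟩ := nonempty_arrowIso (a w.1) U.2 w.2.1.2 w.2.2 hM hN d
  have hi : Function.Injective (f.lTensor Γ(Y w.1, w.2.1.1)) := (tilde_extend_mono_iff _ _).1
    (((MorphismProperty.monomorphisms _).arrow_mk_iso_iff e').1 (monoRes _ _ (h w.1)))
  exact hi (by rw [LinearMap.lTensor_tmul, hm, TensorProduct.tmul_zero, map_zero])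

include hsurj hM hN in
theorem isIso_of_flat_cover (h : ∀ k, IsIso ((Scheme.Modules.pullback (a k)).map d)) : IsIso d := by
  haveI := epi_of_flat_cover a hsurj hM hN d fun k => haveI := h k; inferInstance
  haveI := mono_of_flat_cover a hsurj hM hN d fun k => haveI := h k; inferInstance
  exact isIso_of_mono_of_epi d

end Family

/-- Flat pullback preserves monomorphisms of quasi-coherent modules. -/
theorem mono_pullback_of_flat {X' : Scheme.{u}} (φ : X' ⟶ X) [Flat φ] {M N : X.Modules} (hM : Coh.IsQCoh M)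
    (hN : Coh.IsQCoh N) (d : M ⟶ N) [Mono d] : Mono ((Scheme.Modules.pullback φ).map d) := by
  let J := {p : X'.affineOpens × X.affineOpens // (p.1.1 : X'.Opens) ≤ φ ⁻¹ᵁ p.2.1}
  refine (mono_iff_restrict (fun p : J => p.1.1.2.fromSpec) (fun y => ?_) _).2 fun p => ?_
  · obtain ⟨_, ⟨U, hU, rfl⟩, hxU, -⟩ :=
      X.isBasis_affineOpens.exists_subset_of_mem_open (Set.mem_univ (φ y)) isOpen_univ
    obtain ⟨W, hW, hyW, hle⟩ := exists_isAffineOpen_mem_and_subset (x := y) (U := φ ⁻¹ᵁ U) hxU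
    exact ⟨⟨(⟨W, hW⟩, ⟨U, hU⟩), hle⟩, by rw [IsAffineOpen.range_fromSpec]; exact hyW⟩
  · obtain ⟨e⟩ := nonempty_arrowIso_chart p.1.2.2 hM hN d
    have hi : Function.Injective ((chartΓ p.1.2.2).map d).hom :=
      (tilde_mono_iff _).1 (((MorphismProperty.monomorphisms _).arrow_mk_iso_iff e).1 (monoRes _ d ‹_›))
    obtain ⟨e'⟩ := nonempty_arrowIso φ p.1.2.2 p.1.1.2 p.2 hM hN d
    refine ((MorphismProperty.monomorphisms _).arrow_mk_iso_iff e').2 ((tilde_extend_mono_iff _ _).2 ?_)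
    letI := (φ.appLE p.1.2.1 p.1.1.1 p.2).hom.toAlgebra
    haveI : Module.Flat Γ(X, p.1.2.1) Γ(X', p.1.1.1) := φ.flat_appLE p.1.2.2 p.1.1.2 p.2
    exact Module.Flat.lTensor_preserves_injective_linearMap _ hi

end Groth.Agent.LimModLib
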