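import Groth.Agent.LimModLib.Limit
import Groth.Agent.FlatSyz5.Colim
import Groth.Agent.FlatBC5.Basic
import Groth.Agent.GrFlat5.FlatAtIso
import Mathlib.AlgebraicGeometry.Morphisms.FinitePresentation
import Mathlib.CategoryTheory.Presentable.Directed

/-!
# Flatness over the base descends to a stage of a limit
-/

set_option autoImplicit false
set_option backward.isDefEq.respectTransparency false
set_option backward.isDefEq.respectTransparency.types false

universe u

open CategoryTheory CategoryTheory.Limits AlgebraicGeometry Opposite TopologicalSpace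
open scoped TensorProduct

namespace Groth.Agent.LimModLib

namespace AlgColim

variable {A : Type u} [CommRing A] {J : Type u} [SmallCategory J] [IsCofiltered J] {B : J → Type u}
  [∀ j, CommRing (B j)] [∀ j, Algebra A (B j)] {Binf : Type u} [CommRing Binf] [Algebra A Binf]
  (C : AlgColim A J B Binf)

include C in
theorem exists_flat (hid : ∀ (j : J) (x : B j), C.t (𝟙 j) x = x) {B₀ : Type u} [CommRing B₀] [Algebra A B₀]
    [Algebra.FinitePresentation A B₀] (M₀ : Type u) [AddCommGroup M₀] [Module B₀ M₀] [Module A M₀]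
    [IsScalarTower A B₀ M₀] [Module.FinitePresentation B₀ M₀] (h : Module.Flat Binf (Binf ⊗[A] M₀)) :
    ∃ j : J, Module.Flat (B j) (B j ⊗[A] M₀) := by
  obtain ⟨α, _, _, _, F, hF⟩ := IsFiltered.exists_directed Jᵒᵖ
  obtain ⟨h₁, h₂⟩ := F.final_iff_of_isFiltered.1 hF
  let G : α → Type u := fun a => B (F.obj a).unop
  let g : ∀ a b, a ≤ b → G a →ₐ[A] G b := fun a b hab => C.t (F.map (homOfLE hab)).unop
  letI : ∀ a, Algebra (G a) Binf := fun a => (C.p (F.obj a).unop).toRingHom.toAlgebra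
  haveI : ∀ a, IsScalarTower A (G a) Binf := fun a => IsScalarTower.of_algHom (C.p (F.obj a).unop)
  have hcolim : FlatCA.IsDirectedColimitRing G (fun a b hab => (g a b hab).toRingHom) Binf := by
    refine ⟨inferInstance, inferInstance, fun a => RingHom.ext fun x => ?_,
      fun a b d hab hbd => RingHom.ext fun x => ?_, fun a b hab => RingHom.ext fun x => ?_, fun z => ?_,
      fun a x hx => ?_⟩
    · show C.t (F.map (homOfLE (le_refl a))).unop x = x
      rw [show homOfLE (le_refl a) = 𝟙 a from Subsingleton.elim _ _, F.map_id, unop_id]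
      exact hid _ x
    · show C.t (F.map (homOfLE hbd)).unop (C.t (F.map (homOfLE hab)).unop x) =
        C.t (F.map (homOfLE (hab.trans hbd))).unop x
      rw [← C.comp, ← unop_comp, ← F.map_comp, homOfLE_comp]
    · exact C.cone _ x
    · obtain ⟨j, x, rfl⟩ := C.surj z
      obtain ⟨a, ⟨r⟩⟩ := h₁ (op j)
      exact ⟨a, C.t r.unop x, C.cone r.unop x⟩
    · obtain ⟨k, r, hk⟩ := C.zero _ x hx
      obtain ⟨b, ⟨s⟩⟩ := h₁ (op k)
      obtain ⟨b', hab', hbb'⟩ := exists_ge_ge a b
      obtain ⟨d, t, ht⟩ := h₂ (r.op ≫ s ≫ F.map (homOfLE hbb')) (F.map (homOfLE hab'))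
      refine ⟨d, hab'.trans (leOfHom t), ?_⟩
      show C.t (F.map (homOfLE (hab'.trans (leOfHom t)))).unop x = 0
      rw [show homOfLE (hab'.trans (leOfHom t)) = homOfLE hab' ≫ t from Subsingleton.elim _ _, F.map_comp, ← ht,
        Category.assoc, unop_comp, Quiver.Hom.unop_op]
      rw [C.comp, hk, map_zero]
  obtain ⟨a, ha⟩ := FlatSyz5.exists_flat_stage (B₀ := B₀) G g Binf hcolim M₀ h
  exact ⟨_, ha⟩

include C in
theorem flat_later {M : Type u} [AddCommGroup M] [Module A M] {j k : J} (g : k ⟶ j)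
    (h : Module.Flat (B j) (B j ⊗[A] M)) : Module.Flat (B k) (B k ⊗[A] M) := by
  letI : Algebra (B j) (B k) := (C.t g).toRingHom.toAlgebra
  haveI : IsScalarTower A (B j) (B k) := IsScalarTower.of_algHom (C.t g)
  haveI := h
  exact Module.Flat.of_linearEquiv (TensorProduct.AlgebraTensorModule.cancelBaseChange A (B j) (B k) (B k) M).symm

end AlgColim

variable {I : Type u} [SmallCategory I] [IsCofiltered I] {D : I ⥤ Scheme.{u}} {c : Cone D}
  (hc : IsLimit c) [∀ {i j : I} (f : i ⟶ j), IsAffineHom (D.map f)] {i : I}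

theorem isFlatOver_of_iso {X S : Scheme.{u}} (f : X ⟶ S) {M N : X.Modules} (e : M ≅ N)
    (h : FlatMod.IsFlatOver f M) : FlatMod.IsFlatOver f N := fun x => GrFlat5.isFlatOverAt_of_iso f e x (h x)

omit [IsCofiltered I] [∀ {i j : I} (f : i ⟶ j), IsAffineHom (D.map f)] in
/-- Flatness at a stage gives flatness at any base change of the stage. -/
theorem isFlatOver_of_stage {X₀ : Scheme.{u}} (a : X₀ ⟶ D.obj i) {F : X₀.Modules} (hF : Coh.IsQCoh F)
    {T : Scheme.{u}} {p : T ⟶ D.obj i} {j : I} (φ : j ⟶ i) (r : T ⟶ D.obj j) (hr : r ≫ D.map φ = p)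
    {X : Scheme.{u}} {q : X ⟶ X₀} {f : X ⟶ T} (hsq : IsPullback q f a p)
    (h : FlatMod.IsFlatOver (pullback.snd a (D.map φ)) ((Scheme.Modules.pullback (pullback.fst a (D.map φ))).obj F)) :
    FlatMod.IsFlatOver f ((Scheme.Modules.pullback q).obj F) := by
  let v : X ⟶ pullback a (D.map φ) := pullback.lift q (f ≫ r) (by rw [Category.assoc, hr]; exact hsq.w)
  have hv : IsPullback v f (pullback.snd a (D.map φ)) r :=
    IsPullback.of_right (by rw [pullback.lift_fst, hr]; exact hsq) (pullback.lift_snd _ _ _)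
      (IsPullback.of_hasPullback a (D.map φ))
  exact isFlatOver_of_iso f ((Scheme.Modules.pullbackComp v (pullback.fst a (D.map φ))).app F ≪≫
      (Scheme.Modules.pullbackCongr (pullback.lift_fst _ _ _)).app F)
    (FlatBC5.isFlatOver_of_baseChange hv (QCoh.isQCoh_pullback _ hF) h)

include hc in
theorem isFlatOver_iff_eventually {X₀ : Scheme.{u}} [CompactSpace X₀] (a : X₀ ⟶ D.obj i)
    [LocallyOfFinitePresentation a] {F : X₀.Modules} (hF : Coh.IsQCoh F) (hFp : CohB1.IsFP F)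
    {X : Scheme.{u}} {q : X ⟶ X₀} {f : X ⟶ c.pt} (hsq : IsPullback q f a (c.π.app i)) :
    FlatMod.IsFlatOver f ((Scheme.Modules.pullback q).obj F) ↔
      ∃ (j : I) (φ : j ⟶ i), FlatMod.IsFlatOver (pullback.snd a (D.map φ))
        ((Scheme.Modules.pullback (pullback.fst a (D.map φ))).obj F) := by
  classical
  refine ⟨fun h => ?_, fun ⟨j, φ, h⟩ => isFlatOver_of_stage a hF φ (c.π.app j) (c.w φ) hsq h⟩
  let P := {p : X₀.affineOpens × (D.obj i).affineOpens // (p.1.1 : X₀.Opens) ≤ a ⁻¹ᵁ p.2.1}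
  have hcov : ∀ x : X₀, ∃ p : P, x ∈ p.1.1.1 := fun x => by
    obtain ⟨_, ⟨V, hV, rfl⟩, hxV, -⟩ :=
      (D.obj i).isBasis_affineOpens.exists_subset_of_mem_open (Set.mem_univ (a x)) isOpen_univ
    obtain ⟨W, hW, hxW, hle⟩ := exists_isAffineOpen_mem_and_subset (x := x) (U := a ⁻¹ᵁ V) hxV
    exact ⟨⟨(⟨W, hW⟩, ⟨V, hV⟩), hle⟩, hxW⟩
  choose p hp using hcov
  obtain ⟨s, hs⟩ := isCompact_univ.elim_finite_subcover (fun x => ((p x).1.1.1 : Set X₀))
    (fun x => (p x).1.1.1.2) fun x _ => Set.mem_iUnion.2 ⟨x, hp x⟩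
  haveI : IsAffineHom (c.π.app i) := isAffineHom_π_app D c hc i
  -- a stage for each chart
  have hloc : ∀ x, ∃ j : Over i, ∀ (k : Over i), (k ⟶ j) →
      (letI : Module Γ(D.obj i, (p x).1.2.1) Γ(F, (p x).1.1.1) := Module.compHom _ (a.appLE _ _ (p x).2).hom
       Module.Flat Γ(D.obj k.left, stage (p x).1.2.1 k)
        (Γ(D.obj k.left, stage (p x).1.2.1 k) ⊗[Γ(D.obj i, (p x).1.2.1)] Γ(F, (p x).1.1.1))) := by
    intro x
    obtain ⟨⟨⟨W, hW⟩, ⟨V, hV⟩⟩, hWV⟩ := p x
    letI : Algebra Γ(D.obj i, V) Γ(X₀, W) := (a.appLE V W hWV).hom.toAlgebra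
    letI : Module Γ(D.obj i, V) Γ(F, W) := Module.compHom _ (a.appLE V W hWV).hom
    haveI : IsScalarTower Γ(D.obj i, V) Γ(X₀, W) Γ(F, W) := .of_algebraMap_smul fun _ _ => rfl
    haveI : Algebra.FinitePresentation Γ(D.obj i, V) Γ(X₀, W) := a.finitePresentation_appLE hV hW hWV
    haveI := QCoh.finitePresentation_of_isFP hFp hW
    obtain ⟨C, hCt, -⟩ := exists_algColim hc hV
    have hid : ∀ (j : Over i) (y : Γ(D.obj j.left, stage V j)), C.t (𝟙 j) y = y := fun j y => by
      rw [hCt, appLE_congr' (show D.map (Over.Hom.left (𝟙 j)) = 𝟙 _ by rw [Over.id_left, D.map_id])]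
      simp only [Scheme.Hom.appLE, Scheme.Hom.id_app, Category.id_comp]
      exact congr($((D.obj j.left).presheaf.map_id _) y)
    obtain ⟨j, hj⟩ := C.exists_flat hid (B₀ := Γ(X₀, W)) Γ(F, W)
      ((FlatBC5.flat_tensor_iff hsq hF hV hW hWV (hV.preimage _) le_rfl).2 fun x' _ _ => h x')
    exact ⟨j, fun k g => C.flat_later g hj⟩
  choose j hj using hloc
  obtain ⟨k, hk⟩ := IsCofiltered.inf_objs_exists (s.image j)
  refine ⟨k.left, k.hom, fun x' => ?_⟩
  obtain ⟨x, hx, hmem⟩ := Set.mem_iUnion₂.1 (hs (Set.mem_univ (pullback.fst a (D.map k.hom) x')))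
  refine (FlatBC5.flat_tensor_iff (IsPullback.of_hasPullback a (D.map k.hom)) hF (p x).1.2.2 (p x).1.1.2 (p x).2
    ((p x).1.2.2.preimage _) le_rfl).1 (hj x k (hk (Finset.mem_image_of_mem j hx)).some) x' hmem ?_
  have := (p x).2 hmem
  rwa [Scheme.Hom.mem_preimage, ← Scheme.Hom.comp_apply, pullback.condition, Scheme.Hom.comp_apply] at this

end Groth.Agent.LimModLib
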