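import Groth.Agent.LimModLib.Limit

/-!
# Vanishing, surjectivity and bijectivity of pulled back morphisms along limits
-/

set_option autoImplicit false
set_option backward.isDefEq.respectTransparency false
set_option backward.isDefEq.respectTransparency.types false

universe u

open CategoryTheory CategoryTheory.Limits AlgebraicGeometry Opposite TopologicalSpace

namespace Groth.Agent.LimModLib

theorem eq_zero_iff_of_arrowIso {C : Type*} [Category C] [HasZeroMorphisms C] {M N M' N' : C} (f : M ⟶ N)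
    (f' : M' ⟶ N') (e : Arrow.mk f ≅ Arrow.mk f') : f = 0 ↔ f' = 0 := by
  let a : M ≅ M' := Arrow.leftFunc.mapIso e
  let b : N ≅ N' := Arrow.rightFunc.mapIso e
  have w : a.hom ≫ f' = f ≫ b.hom := e.hom.w
  rw [← cancel_mono b.hom, ← w, zero_comp]
  exact ⟨fun h => (cancel_epi a.hom).1 (h.trans comp_zero.symm), fun h => by rw [h, comp_zero]⟩

/-- Vanishing. -/
noncomputable def zeroProp : ChartProp.{u} where
  P f := f = 0
  Q A B _ _ _ _ _ _ _ _ _ h := h.baseChange B = 0
  iso f f' e := eq_zero_iff_of_arrowIso f f' e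
  restrict j _ hj _ _ f := ⟨fun h a => by rw [h, Functor.map_zero], eq_zero_of_restrict j hj f⟩
  tilde φ _ _ d := tilde_extend_eq_zero_iff d φ
  pullback φ _ _ f h := by rw [h, Functor.map_zero]

/-- Surjectivity. -/
noncomputable def epiProp : ChartProp.{u} where
  P f := Epi f
  Q A B _ _ _ _ _ _ _ _ _ h := Function.Surjective (h.lTensor B)
  iso _ _ e := (MorphismProperty.epimorphisms _).arrow_mk_iso_iff e
  restrict j _ hj _ _ f := epi_iff_restrict j hj f
  tilde φ _ _ d := tilde_extend_epi_iff d φ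
  pullback _ _ _ _ _ := inferInstance

/-- Bijectivity. -/
noncomputable def isoProp : ChartProp.{u} where
  P f := IsIso f
  Q A B _ _ _ _ _ _ _ _ _ h := Function.Bijective (h.lTensor B)
  iso _ _ e := (MorphismProperty.isomorphisms _).arrow_mk_iso_iff e
  restrict j _ hj _ _ f := isIso_iff_restrict j hj f
  tilde φ _ _ d := tilde_extend_isIso_iff d φ
  pullback _ _ _ _ _ := inferInstance

variable {X : Scheme.{u}} {M : X.Modules}

theorem finite_chartΓ (hM : Coh.IsQCoh M) (hft : CohB1.IsFT M) {U : X.Opens} (hU : IsAffineOpen U) :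
    Module.Finite Γ(X, U) ((chartΓ hU).obj M) :=
  haveI := QCoh.finite_of_isFT hM hft hU
  Module.Finite.equiv (QCoh.chartEquiv hU M)

theorem finitePresentation_chartΓ (hfp : CohB1.IsFP M) {U : X.Opens} (hU : IsAffineOpen U) :
    Module.FinitePresentation Γ(X, U) ((chartΓ hU).obj M) :=
  haveI := QCoh.finitePresentation_of_isFP hfp hU
  Module.FinitePresentation.of_equiv (QCoh.chartEquiv hU M)

variable {I : Type u} [SmallCategory I] [IsCofiltered I] {D : I ⥤ Scheme.{u}} {c : Cone D}
  (hc : IsLimit c) [∀ {i j : I} (f : i ⟶ j), IsAffineHom (D.map f)] {i : I} [CompactSpace (D.obj i)]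
  {F G : (D.obj i).Modules}

include hc in
theorem map_eq_zero_iff_eventually (hF : Coh.IsQCoh F) (hFft : CohB1.IsFT F) (hG : Coh.IsQCoh G) (d : F ⟶ G) :
    (Scheme.Modules.pullback (c.π.app i)).map d = 0 ↔
      ∃ (j : I) (φ : j ⟶ i), (Scheme.Modules.pullback (D.map φ)).map d = 0 := by
  refine zeroProp.iff_eventually hc hF hG d (fun U C h => ?_) (fun U C j k g h => C.zero_later _ g h)
  haveI := finite_chartΓ hF hFft U.2
  obtain ⟨j, _, hj⟩ := C.exists_zero _ (Over.mk (𝟙 i)) h
  exact ⟨j, hj⟩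

include hc in
theorem epi_map_iff_eventually (hF : Coh.IsQCoh F) (hG : Coh.IsQCoh G) (hGft : CohB1.IsFT G) (d : F ⟶ G) :
    Epi ((Scheme.Modules.pullback (c.π.app i)).map d) ↔
      ∃ (j : I) (φ : j ⟶ i), Epi ((Scheme.Modules.pullback (D.map φ)).map d) := by
  refine epiProp.iff_eventually hc hF hG d (fun U C h => ?_) (fun U C j k g h => C.surjective_later _ g h)
  haveI := finite_chartΓ hG hGft U.2
  obtain ⟨j, _, hj⟩ := C.exists_surjective _ (Over.mk (𝟙 i)) h
  exact ⟨j, hj⟩

include hc in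
theorem isIso_map_iff_eventually (hF : Coh.IsQCoh F) (hFft : CohB1.IsFT F) (hG : Coh.IsQCoh G)
    (hGfp : CohB1.IsFP G) (d : F ⟶ G) :
    IsIso ((Scheme.Modules.pullback (c.π.app i)).map d) ↔
      ∃ (j : I) (φ : j ⟶ i), IsIso ((Scheme.Modules.pullback (D.map φ)).map d) := by
  refine isoProp.iff_eventually hc hF hG d (fun U C h => ?_) (fun U C j k g h => C.bijective_later _ g h)
  haveI := finite_chartΓ hF hFft U.2
  haveI := finitePresentation_chartΓ hGfp U.2
  obtain ⟨j, _, hj⟩ := C.exists_bijective _ (Over.mk (𝟙 i)) h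
  exact ⟨j, hj⟩

end Groth.Agent.LimModLib
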