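import Groth.Agent.LimModLib.Trans
import Groth.Agent.LimModLib.Props
import Mathlib.AlgebraicGeometry.Morphisms.QuasiSeparated

/-!
# Morphisms between pullbacks descend to a stage
-/

set_option autoImplicit false
set_option backward.isDefEq.respectTransparency false
set_option backward.isDefEq.respectTransparency.types false

universe u

open CategoryTheory CategoryTheory.Limits AlgebraicGeometry Opposite TopologicalSpace
open scoped TensorProduct

namespace Groth.Agent.LimModLib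

open QCoh (pullSec)

variable {I : Type u} [SmallCategory I] [IsCofiltered I] {D : I ⥤ Scheme.{u}} {c : Cone D}
  (hc : IsLimit c) [∀ {i j : I} (f : i ⟶ j), IsAffineHom (D.map f)] {i : I}
  {F G : (D.obj i).Modules}

omit [IsCofiltered I] [∀ {i j : I} (f : i ⟶ j), IsAffineHom (D.map f)] in
theorem map_over {j k : Over i} (g : k ⟶ j) : D.map g.left ≫ D.map j.hom = D.map k.hom := by
  rw [← D.map_comp, Over.w g]

variable (G) in
/-- Transition between stages. -/
noncomputable abbrev τ {j k : Over i} (g : k ⟶ j) (V : (D.obj i).Opens) :=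
  tr G (D.map g.left) (map_over g) V (b := D.map j.hom) (b' := D.map k.hom)

variable (G c) in
/-- Transition to the limit. -/
noncomputable abbrev τ' (j : Over i) (V : (D.obj i).Opens) :=
  tr G (Y' := c.pt) (c.π.app j.left) (c.w j.hom) V (b := D.map j.hom) (b' := c.π.app i)

/-- Sections of the stages over an affine open, through tensor products. -/
structure SecData (c : Cone D) (G : (D.obj i).Modules) (U : (D.obj i).Opens) where
  C : AlgColim Γ(D.obj i, U) (Over i) (fun j => Γ(D.obj j.left, stage U j)) Γ(c.pt, limOpen c U)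
  E : ∀ j : Over i, Γ(D.obj j.left, stage U j) ⊗[Γ(D.obj i, U)] Γ(G, U) ≃+ Γ(PP G (D.map j.hom), U)
  E' : Γ(c.pt, limOpen c U) ⊗[Γ(D.obj i, U)] Γ(G, U) ≃+ Γ(PP G (c.π.app i), U)
  Esmul : ∀ (j : Over i) (s : Γ(D.obj i, U)) t, E j (s • t) = s • E j t
  E'smul : ∀ (s : Γ(D.obj i, U)) t, E' (s • t) = s • E' t
  comm : ∀ {j k : Over i} (g : k ⟶ j) t, τ G g U (E j t) = E k (C.T _ g t)
  comm' : ∀ (j : Over i) t, τ' c G j U (E j t) = E' (C.P _ j t)

include hc in
theorem nonempty_secData {U : (D.obj i).Opens} (hU : IsAffineOpen U) (hG : Coh.IsQCoh G) :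
    Nonempty (SecData c G U) := by
  haveI : IsAffineHom (c.π.app i) := isAffineHom_π_app D c hc i
  obtain ⟨C, hCt, hCp⟩ := exists_algColim hc hU
  choose E hE hEs using fun j : Over i =>
    exists_ppEquiv G (b := D.map j.hom) inferInstance hU hG (fun _ => rfl)
  obtain ⟨E', hE', hE's⟩ := exists_ppEquiv G (Y := c.pt) (b := c.π.app i) ‹IsAffineHom (c.π.app i)› hU hG (fun _ => rfl)
  exact ⟨⟨C, E, E', hEs, hE's,
    fun {j k} g t => tr_equiv G (D.map g.left) (map_over g) (E j) (hE j) (E k) (hE k) (C.t g) (hCt g) t,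
    fun j t => tr_equiv G (Y' := c.pt) (c.π.app j.left) (c.w j.hom) (E j) (hE j) E' hE' (C.p j) (hCp j) t⟩⟩

namespace SecData

variable {U : (D.obj i).Opens} (S : SecData c G U)

include S in
theorem τ_τ {j k l : Over i} (g : k ⟶ j) (g' : l ⟶ k) (y : Γ(PP G (D.map j.hom), U)) :
    τ G g' U (τ G g U y) = τ G (g' ≫ g) U y := by
  obtain ⟨t, rfl⟩ := (S.E j).surjective y
  rw [S.comm, S.comm, S.comm, S.C.T_comp]

include S in
theorem τ'_τ {j k : Over i} (g : k ⟶ j) (y : Γ(PP G (D.map j.hom), U)) :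
    τ' c G k U (τ G g U y) = τ' c G j U y := by
  obtain ⟨t, rfl⟩ := (S.E j).surjective y
  rw [S.comm, S.comm', S.comm', S.C.P_T]

include S in
theorem exists_kill {j : Over i} {ι : Type*} (s : Finset ι) (y : ι → Γ(PP G (D.map j.hom), U))
    (hy : ∀ a ∈ s, τ' c G j U (y a) = 0) : ∃ (k : Over i) (g : k ⟶ j), ∀ a ∈ s, τ G g U (y a) = 0 := by
  obtain ⟨k, g, hk⟩ := S.C.exists_forall_T_eq_zero s (fun a => (S.E j).symm (y a)) fun a ha => by
    apply S.E'.injective
    rw [← S.comm', AddEquiv.apply_symm_apply, hy a ha, map_zero]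
  refine ⟨k, g, fun a ha => ?_⟩
  rw [← (S.E j).apply_symm_apply (y a), S.comm, hk a ha, map_zero]

include S in
theorem exists_lift [Module.FinitePresentation Γ(D.obj i, U) Γ(F, U)] (j₀ : Over i)
    (h : Γ(F, U) →ₗ[Γ(D.obj i, U)] Γ(PP G (c.π.app i), U)) :
    ∃ (j : Over i) (_ : j ⟶ j₀) (ℓ : Γ(F, U) →ₗ[Γ(D.obj i, U)] Γ(PP G (D.map j.hom), U)),
      ∀ s, τ' c G j U (ℓ s) = h s := by
  let h₀ : Γ(F, U) →ₗ[Γ(D.obj i, U)] Γ(c.pt, limOpen c U) ⊗[Γ(D.obj i, U)] Γ(G, U) :=
    { toFun := fun s => S.E'.symm (h s)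
      map_add' := fun a b => by rw [map_add, map_add]
      map_smul' := fun r a => S.E'.injective (by
        rw [AddEquiv.apply_symm_apply, RingHom.id_apply, S.E'smul, AddEquiv.apply_symm_apply, map_smul]) }
  obtain ⟨j, g, h', hh'⟩ := S.C.exists_hom j₀ h₀
  refine ⟨j, g, { toFun := fun s => S.E j (h' s), map_add' := fun a b => ?_, map_smul' := fun r a => ?_ }, fun s => ?_⟩
  · rw [map_add, map_add]
  · rw [map_smul, S.Esmul]; rfl
  · show τ' c G j U (S.E j (h' s)) = h s
    rw [S.comm', hh']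
    exact S.E'.apply_symm_apply _

end SecData

set_option maxHeartbeats 1600000 in
include hc in
/-- A morphism into the direct image from the limit comes from a stage. -/
theorem exists_stage_map [CompactSpace (D.obj i)] [QuasiSeparatedSpace (D.obj i)] (hF : Coh.IsQCoh F)
    (hFfp : CohB1.IsFP F) (hG : Coh.IsQCoh G)
    (H : F ⟶ PP G (Y := c.pt) (c.π.app i)) :
    ∃ (k : Over i) (φ : F ⟶ PP G (D.map k.hom)), ∀ x : D.obj i, ∃ U : (D.obj i).affineOpens, x ∈ U.1 ∧
      ∀ s : Γ(F, U.1), τ' c G k U.1 (φ.app U.1 s) = H.app U.1 s := by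
  classical
  let π : c.pt ⟶ D.obj i := c.π.app i
  -- finitely many affines and their overlaps
  obtain ⟨s, hs⟩ := CompactSpace.elim_nhds_subcover
    (fun x : D.obj i => ((exists_isAffineOpen_mem_and_subset (U := ⊤) (show x ∈ (⊤ : (D.obj i).Opens) from trivial)).choose : Set (D.obj i)))
    (fun x => (exists_isAffineOpen_mem_and_subset (U := ⊤) (show x ∈ (⊤ : (D.obj i).Opens) from trivial)).choose.2.mem_nhds
      (exists_isAffineOpen_mem_and_subset (U := ⊤) (show x ∈ (⊤ : (D.obj i).Opens) from trivial)).choose_spec.2.1)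
  let U : s → (D.obj i).affineOpens := fun x =>
    ⟨_, (exists_isAffineOpen_mem_and_subset (U := ⊤) (show x.1 ∈ (⊤ : (D.obj i).Opens) from trivial)).choose_spec.1⟩
  have hU : ∀ y : D.obj i, ∃ a, y ∈ (U a).1 := fun y => by
    obtain ⟨x, hx, hy⟩ := Set.mem_iUnion₂.1 (hs.ge (Set.mem_univ y))
    exact ⟨⟨x, hx⟩, hy⟩
  choose T hTf hT using fun p : s × s => (isCompact_iff_finite_and_eq_biUnion_affineOpens
    (U := (U p.1).1 ⊓ (U p.2).1)).1
      (QuasiSeparatedSpace.inter_isCompact _ _ (U p.1).1.2 (U p.1).2.isCompact (U p.2).1.2 (U p.2).2.isCompact)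
  have hTle : ∀ p, ∀ V ∈ T p, V.1 ≤ (U p.1).1 ⊓ (U p.2).1 := fun p V hV =>
    (le_biSup (fun V : (D.obj i).affineOpens => V.1) hV).trans (hT p).ge
  -- lifts
  have hlift : ∀ a, ∃ (j : Over i) (ℓ : Γ(F, (U a).1) →ₗ[Γ(D.obj i, (U a).1)] Γ(PP G (D.map j.hom), (U a).1)),
      ∀ x, τ' c G j _ (ℓ x) = H.app (U a).1 x := by
    intro a
    haveI := QCoh.finitePresentation_of_isFP hFfp (U a).2
    obtain ⟨j, -, ℓ, hℓ⟩ := (nonempty_secData hc (U a).2 hG).some.exists_lift (F := F) (Over.mk (𝟙 i))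
      ((LHom.ofHom H (U a).1).top)
    exact ⟨j, ℓ, hℓ⟩
  choose jl ℓ hℓ using hlift
  choose l₀ hl₀ using fun a => LHom.exists_of_top hF (U a).2 (ℓ a)
  obtain ⟨k₀, hk₀⟩ := IsCofiltered.inf_objs_exists (Finset.univ.image jl)
  let gl : ∀ a, k₀ ⟶ jl a := fun a => (hk₀ (Finset.mem_image_of_mem jl (Finset.mem_univ a))).some
  let trL : ∀ {j k : Over i} (g : k ⟶ j) {W : (D.obj i).Opens},
      LHom F (PP G (D.map j.hom)) W → LHom F (PP G (D.map k.hom)) W := fun g _ l =>
    LHom.map (fun V => τ G g V) (fun V => tr_smul G _ _ V) (fun V W' => tr_res G _ _ V W') l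
  let trL' : ∀ (j : Over i) {W : (D.obj i).Opens},
      LHom F (PP G (D.map j.hom)) W → LHom F (PP G π) W := fun j _ l =>
    LHom.map (fun V => τ' c G j V) (fun V => tr_smul G _ _ V) (fun V W' => tr_res G _ _ V W') l
  let l₁ : ∀ a, LHom F (PP G (D.map k₀.hom)) (U a).1 := fun a => trL (gl a) (l₀ a)
  have hlim : ∀ a (V : (D.obj i).Opens) (hV : V ≤ (U a).1) x, τ' c G k₀ V ((l₁ a).app V hV x) = H.app V x := by
    intro a V hV x
    refine LHom.ext_top hF (U a).2 (trL' k₀ (l₁ a)) (LHom.ofHom H _) (fun y => ?_) V hV x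
    show τ' c G k₀ _ (τ G (gl a) _ ((l₀ a).app _ le_rfl y)) = H.app _ y
    rw [(nonempty_secData hc (U a).2 hG).some.τ'_τ, hl₀, hℓ]
  -- the overlaps
  let O := Σ p : s × s, (T p : Set _)
  haveI : ∀ p, Finite (T p : Set _) := fun p => (hTf p).to_subtype
  haveI : Fintype O := Fintype.ofFinite O
  have hover : ∀ t : Finset O, ∃ (k : Over i) (g : k ⟶ k₀), ∀ o ∈ t, ∀ x,
      τ G g o.2.1.1 ((l₁ o.1.1).app o.2.1.1 ((hTle _ _ o.2.2).trans inf_le_left) x) =
      τ G g o.2.1.1 ((l₁ o.1.2).app o.2.1.1 ((hTle _ _ o.2.2).trans inf_le_right) x) := by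
    intro t
    induction t using Finset.induction with
    | empty => exact ⟨k₀, 𝟙 _, by simp⟩
    | insert o t ho ih =>
      obtain ⟨k, g, hg⟩ := ih
      let V := o.2.1
      let S := (nonempty_secData hc V.2 hG).some
      haveI := QCoh.finitePresentation_of_isFP hFfp V.2
      obtain ⟨n, v, hv⟩ := Module.Finite.exists_fin (R := Γ(D.obj i, V.1)) (M := Γ(F, V.1))
      let A₁ := trL g ((l₁ o.1.1).res ((hTle _ _ o.2.2).trans inf_le_left : V.1 ≤ _))
      let A₂ := trL g ((l₁ o.1.2).res ((hTle _ _ o.2.2).trans inf_le_right : V.1 ≤ _))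
      obtain ⟨k', g', hk'⟩ := S.exists_kill (j := k) Finset.univ
        (fun r => A₁.top (v r) - A₂.top (v r)) fun r _ => by
          rw [map_sub, sub_eq_zero]
          show τ' c G k _ (τ G g _ _) = τ' c G k _ (τ G g _ _)
          rw [S.τ'_τ, S.τ'_τ]
          exact (hlim _ _ _ _).trans (hlim _ _ _ _).symm
      refine ⟨k', g' ≫ g, fun o' ho' x => ?_⟩
      rcases Finset.mem_insert.1 ho' with rfl | ho'
      · have hx : x ∈ Submodule.span Γ(D.obj i, V.1) (Set.range v) := hv ▸ Submodule.mem_top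
        have : (trL g' A₁).top = (trL g' A₂).top := LinearMap.ext_on_range hv fun r => by
          have := hk' r (Finset.mem_univ r)
          rwa [map_sub, sub_eq_zero] at this
        have e := LinearMap.congr_fun this x
        rw [← S.τ_τ, ← S.τ_τ]
        exact e
      · let S' := (nonempty_secData hc o'.2.1.2 hG).some
        rw [← S'.τ_τ, ← S'.τ_τ, hg o' ho' x]
  obtain ⟨k, g, hk⟩ := hover Finset.univ
  let l₂ : ∀ a, LHom F (PP G (D.map k.hom)) (U a).1 := fun a => trL g (l₁ a)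
  obtain ⟨φ, hφ⟩ := LHom.exists_glue (fun a => (U a).1) hU l₂ fun a b V hV hV' x => by
    refine LHom.eq_of_cover (l₂ a) (l₂ b) (fun V : (T (a, b) : Set _) => V.1.1) ?_
      (fun V => hTle (a, b) _ V.2) (fun V' W hW y => ?_) V hV hV' x
    · intro y hy
      obtain ⟨V', hV'⟩ := Opens.mem_iSup.1 ((hT (a, b)).le hy)
      obtain ⟨hV', hyV⟩ := Opens.mem_iSup.1 hV'
      exact Opens.mem_iSup.2 ⟨⟨V', hV'⟩, hyV⟩
    · exact LHom.ext_top hF V'.1.2 ((l₂ a).res ((hTle (a, b) _ V'.2).trans inf_le_left))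
        ((l₂ b).res ((hTle (a, b) _ V'.2).trans inf_le_right))
        (fun z => hk ⟨(a, b), V'⟩ (Finset.mem_univ _) z) W hW y
  refine ⟨k, φ, fun x => ?_⟩
  obtain ⟨a, ha⟩ := hU x
  refine ⟨U a, ha, fun y => ?_⟩
  rw [hφ a (U a).1 le_rfl y, ← hlim a _ le_rfl y]
  exact (nonempty_secData hc (U a).2 hG).some.τ'_τ g _

set_option maxHeartbeats 1600000 in
include hc in
/-- A morphism between the pullbacks to the limit comes from a stage. -/
theorem exists_hom_descend [CompactSpace (D.obj i)] [QuasiSeparatedSpace (D.obj i)] (hF : Coh.IsQCoh F)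
    (hFfp : CohB1.IsFP F) (hG : Coh.IsQCoh G)
    (h : (Scheme.Modules.pullback (c.π.app i)).obj F ⟶ (Scheme.Modules.pullback (c.π.app i)).obj G) :
    ∃ (j : Over i) (hj : (Scheme.Modules.pullback (D.map j.hom)).obj F ⟶ (Scheme.Modules.pullback (D.map j.hom)).obj G),
      ((Scheme.Modules.pullbackComp (c.π.app j.left) (D.map j.hom) ≪≫
          Scheme.Modules.pullbackCongr (c.w j.hom)).app F).inv ≫
        (Scheme.Modules.pullback (c.π.app j.left)).map hj ≫
          ((Scheme.Modules.pullbackComp (c.π.app j.left) (D.map j.hom) ≪≫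
            Scheme.Modules.pullbackCongr (c.w j.hom)).app G).hom = h := by
  let π : c.pt ⟶ D.obj i := c.π.app i
  let H : F ⟶ PP G π := (Scheme.Modules.pullbackPushforwardAdjunction π).homEquiv _ _ h
  obtain ⟨k, φ, hφ⟩ := exists_stage_map hc hF hFfp hG H
  choose U hU hφU using hφ
  let hj := ((Scheme.Modules.pullbackPushforwardAdjunction (D.map k.hom)).homEquiv _ _).symm φ
  refine ⟨k, hj, ?_⟩
  apply ((Scheme.Modules.pullbackPushforwardAdjunction π).homEquiv F _).injective
  -- compare on the affines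
  have key : ∀ (a : D.obj i) (x : Γ(F, (U a).1)),
      ((Scheme.Modules.pullbackPushforwardAdjunction π).homEquiv F _
        (((Scheme.Modules.pullbackComp (c.π.app k.left) (D.map k.hom) ≪≫
            Scheme.Modules.pullbackCongr (c.w k.hom)).app F).inv ≫
          (Scheme.Modules.pullback (c.π.app k.left)).map hj ≫
            ((Scheme.Modules.pullbackComp (c.π.app k.left) (D.map k.hom) ≪≫
              Scheme.Modules.pullbackCongr (c.w k.hom)).app G).hom)).app (U a).1 x = H.app (U a).1 x := by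
    intro a x
    rw [← hφU a x, Adjunction.homEquiv_unit]
    let t := Scheme.Modules.pullbackComp (c.π.app k.left) (D.map k.hom) ≪≫
      Scheme.Modules.pullbackCongr (c.w k.hom)
    let e := preimage_le (b := D.map k.hom) (b' := π) (c.π.app k.left) (c.w k.hom) (U a).1
    let z := pullSec (c.π.app k.left) _ e (pullSec (D.map k.hom) F (le_refl (D.map k.hom ⁻¹ᵁ (U a).1)) x)
    have h1 : (show Γ((Scheme.Modules.pullback π).obj F, π ⁻¹ᵁ (U a).1) from
        ((Scheme.Modules.pullbackPushforwardAdjunction π).unit.app F).app (U a).1 x) =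
        (t.hom.app F).app (π ⁻¹ᵁ (U a).1) z := by
      refine Eq.trans ?_ (tr_pullSec F (c.π.app k.left) (c.w k.hom) x).symm
      exact (QCoh.map_id' _ _).symm
    show (((t.app F).inv ≫ (Scheme.Modules.pullback (c.π.app k.left)).map hj ≫ (t.app G).hom)).app
      (π ⁻¹ᵁ (U a).1) (show Γ((Scheme.Modules.pullback π).obj F, π ⁻¹ᵁ (U a).1) from
        ((Scheme.Modules.pullbackPushforwardAdjunction π).unit.app F).app (U a).1 x) = _
    rw [h1]
    show (t.hom.app G).app (π ⁻¹ᵁ (U a).1) (((Scheme.Modules.pullback (c.π.app k.left)).map hj).app _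
      ((t.inv.app F).app _ ((t.hom.app F).app _ z))) = _
    rw [show (t.inv.app F).app (π ⁻¹ᵁ (U a).1) ((t.hom.app F).app _ z) = z from
      congrArg (fun ψ => Scheme.Modules.Hom.app ψ (π ⁻¹ᵁ (U a).1) z) (t.hom_inv_id_app F),
      Groth.Agent.ExistEasy.pullSec_natural (c.π.app k.left) hj e]
    have h2 : φ.app (U a).1 x = hj.app (D.map k.hom ⁻¹ᵁ (U a).1) (pullSec (D.map k.hom) F le_rfl x) := by
      conv_lhs => rw [show φ = (Scheme.Modules.pullbackPushforwardAdjunction (D.map k.hom)).homEquiv F _ hj from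
        (Equiv.apply_symm_apply _ _).symm, Adjunction.homEquiv_unit]
      exact congrArg (hj.app _) (QCoh.map_id' _ _).symm
    rw [h2]
    rfl
  refine Scheme.Modules.hom_ext _ _ fun V => ?_
  ext x
  let A := (Scheme.Modules.pullbackPushforwardAdjunction π).homEquiv F _
    (((Scheme.Modules.pullbackComp (c.π.app k.left) (D.map k.hom) ≪≫
        Scheme.Modules.pullbackCongr (c.w k.hom)).app F).inv ≫
      (Scheme.Modules.pullback (c.π.app k.left)).map hj ≫
        ((Scheme.Modules.pullbackComp (c.π.app k.left) (D.map k.hom) ≪≫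
          Scheme.Modules.pullbackCongr (c.w k.hom)).app G).hom)
  exact LHom.eq_of_cover (LHom.ofHom A ⊤) (LHom.ofHom H ⊤) (fun a => (U a).1)
    (fun y _ => Opens.mem_iSup.2 ⟨y, hU y⟩) (fun a => le_inf le_top le_top)
    (fun a W hW y => LHom.ext_top hF (U a).2 ((LHom.ofHom A ⊤).res le_top) ((LHom.ofHom H ⊤).res le_top)
      (fun z => key a z) W hW y) V le_top le_top x

end Groth.Agent.LimModLib
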