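import Groth.Agent.LimModLib.Alg

/-!
# Descending vanishing, surjectivity and bijectivity of linear maps
-/

set_option autoImplicit false
set_option backward.isDefEq.respectTransparency false
set_option backward.isDefEq.respectTransparency.types false

universe u

open CategoryTheory TensorProduct

namespace Groth.Agent.LimModLib.AlgColim

variable {A : Type u} [CommRing A] {J : Type u} [SmallCategory J] {B : J → Type u}
  [∀ j, CommRing (B j)] [∀ j, Algebra A (B j)] {Binf : Type u} [CommRing Binf] [Algebra A Binf]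
  (C : AlgColim A J B Binf) {M N : Type u} [AddCommGroup M] [Module A M] [AddCommGroup N] [Module A N]
  (h : M →ₗ[A] N) [IsCofiltered J]

theorem lTensor_ext_one {R : Type u} [CommRing R] [Algebra A R] {f g : R ⊗[A] M →ₗ[R] R ⊗[A] N}
    {s : Set M} (hs : Submodule.span A s = ⊤) (e : ∀ m ∈ s, f (1 ⊗ₜ m) = g (1 ⊗ₜ m)) : f = g := by
  refine TensorProduct.AlgebraTensorModule.ext fun r m => ?_
  have hm : f (1 ⊗ₜ m) = g (1 ⊗ₜ m) := by
    have : m ∈ Submodule.span A s := hs ▸ Submodule.mem_top
    induction this using Submodule.span_induction with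
    | mem x hx => exact e x hx
    | zero => rw [tmul_zero, map_zero, map_zero]
    | add x y _ _ hx hy => rw [tmul_add, map_add, map_add, hx, hy]
    | smul a x _ hx => rw [tmul_smul, f.map_smul_of_tower, g.map_smul_of_tower, hx]
  rw [show r ⊗ₜ[A] m = r • ((1 : R) ⊗ₜ[A] m) by rw [smul_tmul', smul_eq_mul, mul_one], map_smul, map_smul, hm]

include C in
theorem exists_zero [Module.Finite A M] (j₀ : J) (h0 : h.baseChange Binf = 0) :
    ∃ (j : J) (_ : j ⟶ j₀), h.baseChange (B j) = 0 := by
  obtain ⟨n, v, hv⟩ := Module.Finite.exists_fin (R := A) (M := M)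
  obtain ⟨k, g, hk⟩ := C.exists_forall_T_eq_zero (j := j₀) Finset.univ
    (fun i => (1 : B j₀) ⊗ₜ[A] h (v i)) fun i _ => by
      rw [P_tmul, map_one]
      exact LinearMap.congr_fun h0 (1 ⊗ₜ v i)
  refine ⟨k, g, lTensor_ext_one hv ?_⟩
  rintro _ ⟨i, rfl⟩
  rw [LinearMap.baseChange_tmul, LinearMap.zero_apply]
  simpa [T_tmul] using hk i (Finset.mem_univ i)

include C in
/-- Surjectivity passes to later stages. -/
theorem surjective_later {j k : J} (g : k ⟶ j) (hs : Function.Surjective (h.lTensor (B j))) :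
    Function.Surjective (h.lTensor (B k)) := by
  rw [← LinearMap.range_eq_top, eq_top_iff, ← TensorProduct.span_tmul_eq_top, Submodule.span_le]
  rintro _ ⟨b, n, rfl⟩
  obtain ⟨z, hz⟩ := hs (1 ⊗ₜ n)
  refine ⟨(LinearMap.mul A (B k) b).rTensor M (C.T M g z), ?_⟩
  rw [← LinearMap.comp_apply, LinearMap.lTensor_comp_rTensor, ← LinearMap.rTensor_comp_lTensor,
    LinearMap.comp_apply, ← C.T_nat, hz, T_tmul, map_one, LinearMap.rTensor_tmul,
    LinearMap.mul_apply', mul_one]

include C in
theorem exists_surjective [Module.Finite A N] (j₀ : J) (hs : Function.Surjective (h.lTensor Binf)) :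
    ∃ (j : J) (_ : j ⟶ j₀), Function.Surjective (h.lTensor (B j)) := by
  classical
  obtain ⟨n, v, hv⟩ := Module.Finite.exists_fin (R := A) (M := N)
  suffices H : ∀ t : Finset (Fin n), ∃ (j : J) (_ : j ⟶ j₀), ∀ i ∈ t,
      ∃ z, h.lTensor (B j) z = 1 ⊗ₜ v i by
    obtain ⟨j, g, hj⟩ := H Finset.univ
    refine ⟨j, g, ?_⟩
    have : Function.Surjective (h.baseChange (B j)) := by
      rw [← LinearMap.range_eq_top, eq_top_iff]
      rintro y -
      induction y with
      | zero => exact zero_mem _
      | add x y hx hy => exact add_mem hx hy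
      | tmul b x =>
        have hx : x ∈ Submodule.span A (Set.range v) := hv ▸ Submodule.mem_top
        induction hx using Submodule.span_induction with
        | mem x hx =>
          obtain ⟨i, rfl⟩ := hx
          obtain ⟨z, hz⟩ := hj i (Finset.mem_univ i)
          exact ⟨b • z, by rw [map_smul, show h.baseChange (B j) z = 1 ⊗ₜ v i from hz, smul_tmul', smul_eq_mul,
            mul_one]⟩
        | zero => rw [tmul_zero]; exact zero_mem _
        | add x y _ _ hx hy => rw [tmul_add]; exact add_mem hx hy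
        | smul a x _ hx => rw [tmul_smul]; exact Submodule.smul_of_tower_mem _ a hx
    exact this
  intro t
  induction t using Finset.induction with
  | empty => exact ⟨j₀, 𝟙 j₀, by simp⟩
  | insert a t ha ih =>
    obtain ⟨j, g, hj⟩ := ih
    obtain ⟨z, hz⟩ := hs (1 ⊗ₜ v a)
    obtain ⟨k, g₁, z', rfl⟩ := C.exists_P_eq_over j z
    obtain ⟨l, g₂, hl⟩ := C.exists_T_eq_zero (h.lTensor (B k) z' - 1 ⊗ₜ v a) (by
      rw [map_sub, P_nat, hz, P_tmul, map_one, sub_self])
    refine ⟨l, g₂ ≫ g₁ ≫ g, fun i hi => ?_⟩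
    rcases Finset.mem_insert.1 hi with rfl | hi
    · rw [map_sub, T_nat, T_tmul, map_one, sub_eq_zero] at hl
      exact ⟨_, hl⟩
    · obtain ⟨z, hz⟩ := hj i hi
      exact ⟨C.T M (g₂ ≫ g₁) z, by rw [← T_nat, hz, T_tmul, map_one]⟩

include C in
theorem exists_bijective [Module.Finite A M] [Module.FinitePresentation A N] (j₀ : J)
    (hb : Function.Bijective (h.lTensor Binf)) :
    ∃ (j : J) (_ : j ⟶ j₀), Function.Bijective (h.lTensor (B j)) := by
  classical
  obtain ⟨j, g₀, hj⟩ := C.exists_surjective h j₀ hb.2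
  have hj' : Function.Surjective (h.baseChange (B j)) := hj
  obtain ⟨s, hs⟩ := Module.FinitePresentation.fg_ker (h.baseChange (B j)) hj'
  obtain ⟨k, g, hk⟩ := C.exists_forall_T_eq_zero s id fun y hy => hb.1 (by
    rw [← P_nat, map_zero]
    have : y ∈ LinearMap.ker (h.baseChange (B j)) := hs ▸ Submodule.subset_span hy
    rw [show h.lTensor (B j) (id y) = 0 from LinearMap.mem_ker.1 this, map_zero])
  refine ⟨k, g ≫ g₀, ?_, C.surjective_later h g hj⟩
  have hker : ∀ y, h.lTensor (B j) y = 0 → C.T M g y = 0 := by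
    intro y hy
    have : y ∈ Submodule.span (B j) (s : Set (B j ⊗[A] M)) := hs ▸ LinearMap.mem_ker.2 hy
    clear hy
    induction this using Submodule.span_induction with
    | mem x hx => exact hk x hx
    | zero => exact map_zero _
    | add x y _ _ hx hy => rw [map_add, hx, hy, add_zero]
    | smul b x _ hx =>
      have : ∀ x, C.T M g (b • x) = C.t g b • C.T M g x := fun x => by
        induction x with
        | zero => simp
        | tmul c m => rw [smul_tmul', T_tmul, T_tmul, smul_tmul', smul_eq_mul, smul_eq_mul, map_mul]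
        | add x y hx hy => rw [smul_add, map_add, map_add, smul_add, hx, hy]
      rw [this, hx, smul_zero]
  -- the left inverse
  have hle : LinearMap.ker (h.lTensor (B j)) ≤ LinearMap.ker (C.T M g) := fun y hy => hker y hy
  let ψ : B j ⊗[A] N →ₗ[A] B k ⊗[A] M :=
    (LinearMap.ker (h.lTensor (B j))).liftQ (C.T M g) hle ∘ₗ
      ((h.lTensor (B j)).quotKerEquivOfSurjective hj).symm.toLinearMap
  have hψ : ∀ y, ψ (h.lTensor (B j) y) = C.T M g y := by
    intro y
    have : ((h.lTensor (B j)).quotKerEquivOfSurjective hj).symm (h.lTensor (B j) y) = Submodule.Quotient.mk y := by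
      rw [LinearEquiv.symm_apply_eq]; rfl
    simp only [ψ, LinearMap.comp_apply, LinearEquiv.coe_coe, this, Submodule.liftQ_apply]
  let Ψ : B k ⊗[A] N →ₗ[B k] B k ⊗[A] M :=
    TensorProduct.AlgebraTensorModule.lift
      { toFun := fun b => b • (ψ ∘ₗ TensorProduct.mk A (B j) N 1)
        map_add' := fun x y => add_smul _ _ _
        map_smul' := fun x y => by simp [mul_smul] }
  have hΨ : ∀ x, Ψ (h.baseChange (B k) x) = x := by
    intro x
    have : Ψ.comp (h.baseChange (B k)) = LinearMap.id := by
      refine TensorProduct.AlgebraTensorModule.ext fun b m => ?_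
      have h1 := hψ (1 ⊗ₜ m)
      rw [LinearMap.lTensor_tmul, T_tmul, map_one] at h1
      simp only [LinearMap.comp_apply, LinearMap.baseChange_tmul, LinearMap.id_apply, Ψ,
        TensorProduct.AlgebraTensorModule.lift_tmul, LinearMap.coe_mk, AddHom.coe_mk, LinearMap.smul_apply,
        TensorProduct.mk_apply, h1, smul_tmul', smul_eq_mul, mul_one]
    exact LinearMap.congr_fun this x
  exact (Function.LeftInverse.injective hΨ :)

end Groth.Agent.LimModLib.AlgColim

namespace Groth.Agent.LimModLib.AlgColim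

open TensorProduct

variable {A : Type u} [CommRing A] {J : Type u} [SmallCategory J] {B : J → Type u}
  [∀ j, CommRing (B j)] [∀ j, Algebra A (B j)] {Binf : Type u} [CommRing Binf] [Algebra A Binf]
  (C : AlgColim A J B Binf) {M N : Type u} [AddCommGroup M] [Module A M] [AddCommGroup N] [Module A N]
  (h : M →ₗ[A] N)

include C in
theorem zero_later {j k : J} (g : k ⟶ j) (h0 : h.baseChange (B j) = 0) : h.baseChange (B k) = 0 := by
  refine TensorProduct.AlgebraTensorModule.ext fun b m => ?_
  have h1 : (1 : B j) ⊗ₜ[A] h m = 0 := LinearMap.congr_fun h0 (1 ⊗ₜ m)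
  have h2 := congrArg (C.T N g) h1
  rw [T_tmul, map_one, map_zero] at h2
  rw [LinearMap.baseChange_tmul, LinearMap.zero_apply,
    show b ⊗ₜ[A] h m = b • ((1 : B k) ⊗ₜ[A] h m) by rw [smul_tmul', smul_eq_mul, mul_one], h2, smul_zero]

include C in
theorem bijective_later {j k : J} (g : k ⟶ j) (hb : Function.Bijective (h.lTensor (B j))) :
    Function.Bijective (h.lTensor (B k)) := by
  letI : Algebra (B j) (B k) := (C.t g).toRingHom.toAlgebra
  haveI : IsScalarTower A (B j) (B k) := IsScalarTower.of_algHom (C.t g)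
  let eM := TensorProduct.AlgebraTensorModule.cancelBaseChange A (B j) (B k) (B k) M
  let eN := TensorProduct.AlgebraTensorModule.cancelBaseChange A (B j) (B k) (B k) N
  let e : B j ⊗[A] M ≃ₗ[B j] B j ⊗[A] N := LinearEquiv.ofBijective (h.baseChange (B j)) hb
  have he : (h.baseChange (B k)) =
      (eM.symm ≪≫ₗ (e.baseChange (B j) (B k) (B j ⊗[A] M) (B j ⊗[A] N)) ≪≫ₗ eN).toLinearMap := by
    refine TensorProduct.AlgebraTensorModule.ext fun b m => ?_
    simp [eM, eN, e]
  show Function.Bijective (h.baseChange (B k))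
  rw [he]
  exact LinearEquiv.bijective _

end Groth.Agent.LimModLib.AlgColim
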