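import Groth.Agent.LimModLib.AlgHom
import Groth.Agent.LimModLib.AlgDescend
import Mathlib.RingTheory.Spectrum.Prime.FreeLocus

/-!
# Projectivity and rank along filtered colimits of algebras
-/

set_option autoImplicit false
set_option backward.isDefEq.respectTransparency false
set_option backward.isDefEq.respectTransparency.types false

universe u

open CategoryTheory TensorProduct

namespace Groth.Agent.LimModLib

variable {A : Type u} [CommRing A] {M : Type u} [AddCommGroup M] [Module A M]

section BaseChange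

variable {B B' : Type u} [CommRing B] [Algebra A B] [CommRing B'] [Algebra A B'] (f : B →ₐ[A] B')

include f in
theorem projective_of_algHom (h : Module.Projective B (B ⊗[A] M)) : Module.Projective B' (B' ⊗[A] M) := by
  letI : Algebra B B' := f.toRingHom.toAlgebra
  haveI : IsScalarTower A B B' := IsScalarTower.of_algHom f
  exact Module.Projective.of_equiv (TensorProduct.AlgebraTensorModule.cancelBaseChange A B B' B' M)

theorem rankAtStalk_algHom [Module.Finite A M] [Module.Projective B (B ⊗[A] M)] (Q : PrimeSpectrum B') :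
    Module.rankAtStalk (B' ⊗[A] M) Q = Module.rankAtStalk (B ⊗[A] M) (PrimeSpectrum.comap f.toRingHom Q) := by
  letI : Algebra B B' := f.toRingHom.toAlgebra
  haveI : IsScalarTower A B B' := IsScalarTower.of_algHom f
  rw [← Module.rankAtStalk_eq_of_equiv (TensorProduct.AlgebraTensorModule.cancelBaseChange A B B' B' M),
    Module.rankAtStalk_baseChange]
  rfl

end BaseChange

namespace AlgColim

variable {J : Type u} [SmallCategory J] {B : J → Type u}
  [∀ j, CommRing (B j)] [∀ j, Algebra A (B j)] {Binf : Type u} [CommRing Binf] [Algebra A Binf]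
  (C : AlgColim A J B Binf) [IsCofiltered J]

include C in
theorem exists_projective [Module.FinitePresentation A M] (j₀ : J) (h : Module.Projective Binf (Binf ⊗[A] M)) :
    ∃ (j : J) (_ : j ⟶ j₀), Module.Projective (B j) (B j ⊗[A] M) := by
  classical
  obtain ⟨m, q, hq⟩ := Module.Finite.exists_fin' A M
  have hqs : Function.Surjective (q.baseChange Binf) := LinearMap.lTensor_surjective Binf hq
  obtain ⟨σ, hσ⟩ := Module.projective_lifting_property (q.baseChange Binf) LinearMap.id hqs
  let h₀ : M →ₗ[A] Binf ⊗[A] (Fin m → A) := σ.restrictScalars A ∘ₗ TensorProduct.mk A Binf M 1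
  obtain ⟨j, g, h', hh'⟩ := C.exists_hom j₀ h₀
  obtain ⟨n, v, hv⟩ := Module.Finite.exists_fin (R := A) (M := M)
  obtain ⟨k, g', hk⟩ := C.exists_forall_T_eq_zero Finset.univ
    (fun r => q.lTensor (B j) (h' (v r)) - 1 ⊗ₜ[A] v r) fun r _ => by
      rw [map_sub, P_nat, hh', P_tmul, map_one, sub_eq_zero]
      exact LinearMap.congr_fun hσ (1 ⊗ₜ v r)
  refine ⟨k, g' ≫ g, ?_⟩
  let hk' : M →ₗ[A] B k ⊗[A] (Fin m → A) := C.T _ g' ∘ₗ h'
  let τ : B k ⊗[A] M →ₗ[B k] B k ⊗[A] (Fin m → A) :=
    TensorProduct.AlgebraTensorModule.lift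
      { toFun := fun b => b • hk'
        map_add' := fun x y => add_smul _ _ _
        map_smul' := fun x y => by simp [mul_smul] }
  refine Module.Projective.of_split τ (q.baseChange (B k)) ?_
  refine lTensor_ext_one hv ?_
  rintro _ ⟨r, rfl⟩
  rw [LinearMap.comp_apply, LinearMap.id_apply]
  show q.lTensor (B k) (τ (1 ⊗ₜ v r)) = _
  simp only [τ, TensorProduct.AlgebraTensorModule.lift_tmul, LinearMap.coe_mk, AddHom.coe_mk, one_smul, hk',
    LinearMap.comp_apply, ← C.T_nat]
  have := hk r (Finset.mem_univ r)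
  rwa [map_sub, sub_eq_zero, T_tmul, map_one] at this

include C in
theorem exists_rank [Module.FinitePresentation A M] (n : ℕ) (j₀ : J) (hp : Module.Projective Binf (Binf ⊗[A] M))
    (hr : ∀ Q, Module.rankAtStalk (R := Binf) (Binf ⊗[A] M) Q = n) :
    ∃ (j : J) (_ : j ⟶ j₀), Module.Projective (B j) (B j ⊗[A] M) ∧
      ∀ Q, Module.rankAtStalk (R := B j) (B j ⊗[A] M) Q = n := by
  classical
  obtain ⟨j, g, hj⟩ := C.exists_projective j₀ hp
  haveI := hj
  haveI : Module.FinitePresentation (B j) (B j ⊗[A] M) := inferInstance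
  let r := Module.rankAtStalk (R := B j) (B j ⊗[A] M)
  have hlc : IsLocallyConstant r := Module.isLocallyConstant_rankAtStalk
  let Z : Set (PrimeSpectrum (B j)) := {Q | r Q ≠ n}
  have hopen : IsOpen Z := hlc {m | m ≠ n}
  have hclosed : IsClosed Z := ⟨by
    rw [show Zᶜ = r ⁻¹' {n} by ext Q; simp [Z]]
    exact hlc {n}⟩
  obtain ⟨s, hs⟩ := PrimeSpectrum.isCompact_isOpen_iff.1 ⟨hclosed.isCompact, hopen⟩
  have hnil : ∀ a ∈ s, IsNilpotent (C.p j a) := by
    intro a ha
    rw [← mem_nilradical, nilradical_eq_sInf,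
      Submodule.mem_sInf]
    intro Q hQ
    let Q' : PrimeSpectrum Binf := ⟨Q, hQ⟩
    by_contra hn
    have hmem : PrimeSpectrum.comap (C.p j).toRingHom Q' ∈ Z := by
      rw [← hs, Set.mem_compl_iff, PrimeSpectrum.mem_zeroLocus]
      exact fun hsub => hn (hsub ha)
    exact hmem ((rankAtStalk_algHom (C.p j) Q').symm.trans (hr Q'))
  choose! e he using hnil
  obtain ⟨k, g', hk⟩ := C.exists_forall_vanish s (fun a => a ^ e a) fun a ha => by rw [map_pow]; exact he a ha
  refine ⟨k, g' ≫ g, projective_of_algHom (C.t g') hj, fun Q => ?_⟩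
  rw [rankAtStalk_algHom (C.t g') Q]
  by_contra hne
  have hmem : PrimeSpectrum.comap (C.t g').toRingHom Q ∈ Z := hne
  rw [← hs, Set.mem_compl_iff, PrimeSpectrum.mem_zeroLocus] at hmem
  refine hmem fun a ha => ?_
  show C.t g' a ∈ Q.asIdeal
  refine Q.2.mem_of_pow_mem (e a) ?_
  rw [← map_pow, hk a ha]
  exact Q.asIdeal.zero_mem

end AlgColim

end Groth.Agent.LimModLib
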