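import Groth.Agent.LimModLib.FP
import Groth.Agent.LimModLib.AlgProj
import Groth.Agent.ConsPropLib.FibreLocFreeRank

/-!
# Finite locally free pullbacks along limits
-/

set_option autoImplicit false
set_option backward.isDefEq.respectTransparency false
set_option backward.isDefEq.respectTransparency.types false

universe u

open CategoryTheory CategoryTheory.Limits AlgebraicGeometry Opposite TopologicalSpace
open scoped TensorProduct

namespace Groth.Agent.LimModLib

variable {X X' : Scheme.{u}}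

/-- A pullback on an affine chart. -/
theorem nonempty_restrict_iso (φ : X' ⟶ X) {U : X.Opens} (hU : IsAffineOpen U) {W : X'.Opens} (hW : IsAffineOpen W)
    (hle : W ≤ φ ⁻¹ᵁ U) {M : X.Modules} (hM : Coh.IsQCoh M) :
    Nonempty (((Scheme.Modules.pullback φ).obj M).restrict hW.fromSpec ≅
      tilde ((ModuleCat.extendScalars.{_, _, u} (φ.appLE U W hle).hom).obj ((chartΓ hU).obj M))) := by
  haveI : IsIso (M.restrict hU.fromSpec).fromTildeΓ :=
    (isQuasicoherent_iff_isIso_fromTildeΓ _).1 (QCoh.isQCoh_restrict hU.fromSpec hM)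
  exact ⟨QCoh.pullbackChartIso (φ.appLE U W hle) φ (j := hW.fromSpec) (i := hU.fromSpec)
      (QCoh.exists_chart_map φ hU hW hle) M ≪≫
      (Scheme.Modules.pullback (Spec.map (φ.appLE U W hle))).mapIso (asIso (M.restrict hU.fromSpec).fromTildeΓ).symm ≪≫
      (QCoh.tildePullbackIso (φ.appLE U W hle)).app _⟩

/-- A property of modules which can be tested on charts. -/
structure ObjProp where
  /-- The property of modules on schemes. -/
  P : ∀ {X : Scheme.{u}}, X.Modules → Prop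
  /-- The property of linear algebra. -/
  Q : ∀ (A B : Type u) [CommRing A] [CommRing B] [Algebra A B] (M : Type u) [AddCommGroup M] [Module A M], Prop
  iso : ∀ {X : Scheme.{u}} {M N : X.Modules}, (M ≅ N) → (P M ↔ P N)
  restrict : ∀ {X : Scheme.{u}} {ι : Type u} {Y : ι → Scheme.{u}} (j : ∀ a, Y a ⟶ X)
    [∀ a, IsOpenImmersion (j a)] (_ : ∀ x : X, ∃ a, x ∈ Set.range (j a).base) (M : X.Modules),
    P M ↔ ∀ a, P (M.restrict (j a))
  tilde : ∀ {A : Type u} [CommRing A] {B : CommRingCat.{u}} (φ : A →+* B) (M : ModuleCat.{u} A) [Module.Finite A M],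
    letI := φ.toAlgebra
    P (tilde ((ModuleCat.extendScalars.{_, _, u} φ).obj M)) ↔ Q A B M
  push : ∀ {A B B' : Type u} [CommRing A] [CommRing B] [CommRing B'] [Algebra A B] [Algebra A B'] (_ : B →ₐ[A] B')
    (M : Type u) [AddCommGroup M] [Module A M] [Module.Finite A M], Q A B M → Q A B' M

theorem ObjProp.iff_cover (Z : ObjProp.{u}) (φ : X' ⟶ X) [IsAffineHom φ] {ι : Type u}
    (U : ι → X.affineOpens) (hU : ∀ x : X, ∃ a, x ∈ (U a).1) {M : X.Modules} (hM : Coh.IsQCoh M)
    (hft : CohB1.IsFT M) :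
    Z.P ((Scheme.Modules.pullback φ).obj M) ↔ ∀ a,
      letI := (φ.appLE (U a).1 (φ ⁻¹ᵁ (U a).1) le_rfl).hom.toAlgebra
      Z.Q Γ(X, (U a).1) Γ(X', φ ⁻¹ᵁ (U a).1) ((chartΓ (U a).2).obj M) := by
  rw [Z.restrict (fun a => ((U a).2.preimage φ).fromSpec) (fun x => by
    obtain ⟨a, ha⟩ := hU (φ x)
    refine ⟨a, ?_⟩
    rw [IsAffineOpen.range_fromSpec]
    exact ha)]
  refine forall_congr' fun a => ?_
  obtain ⟨e⟩ := nonempty_restrict_iso φ (U a).2 ((U a).2.preimage φ) le_rfl hM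
  haveI := finite_chartΓ hM hft (U a).2
  exact (Z.iso e).trans (Z.tilde _ _)

variable {I : Type u} [SmallCategory I] [IsCofiltered I] {D : I ⥤ Scheme.{u}} {c : Cone D}
  (hc : IsLimit c) [∀ {i j : I} (f : i ⟶ j), IsAffineHom (D.map f)] {i : I} [CompactSpace (D.obj i)]

include hc in
theorem ObjProp.iff_eventually (Z : ObjProp.{u}) {M : (D.obj i).Modules} (hM : Coh.IsQCoh M) (hft : CohB1.IsFT M)
    (hdesc : ∀ (U : (D.obj i).affineOpens) (_C : AlgColim Γ(D.obj i, U.1) (Over i)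
      (fun j => Γ(D.obj j.left, stage U.1 j)) Γ(c.pt, limOpen c U.1)),
      Z.Q Γ(D.obj i, U.1) Γ(c.pt, limOpen c U.1) ((chartΓ U.2).obj M) →
        ∃ j : Over i, Z.Q Γ(D.obj i, U.1) Γ(D.obj j.left, stage U.1 j) ((chartΓ U.2).obj M)) :
    Z.P ((Scheme.Modules.pullback (c.π.app i)).obj M) ↔
      ∃ (j : I) (φ : j ⟶ i), Z.P ((Scheme.Modules.pullback (D.map φ)).obj M) := by
  classical
  obtain ⟨s, hs⟩ := CompactSpace.elim_nhds_subcover
    (fun x : D.obj i => ((exists_isAffineOpen_mem_and_subset (U := ⊤) (show x ∈ (⊤ : (D.obj i).Opens) from trivial)).choose : Set (D.obj i)))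
    (fun x => (exists_isAffineOpen_mem_and_subset (U := ⊤) (show x ∈ (⊤ : (D.obj i).Opens) from trivial)).choose.2.mem_nhds
      (exists_isAffineOpen_mem_and_subset (U := ⊤) (show x ∈ (⊤ : (D.obj i).Opens) from trivial)).choose_spec.2.1)
  let U : s → (D.obj i).affineOpens := fun x =>
    ⟨_, (exists_isAffineOpen_mem_and_subset (U := ⊤) (show x.1 ∈ (⊤ : (D.obj i).Opens) from trivial)).choose_spec.1⟩
  have hU : ∀ y : D.obj i, ∃ a, y ∈ (U a).1 := fun y => by
    obtain ⟨x, hx, hy⟩ := Set.mem_iUnion₂.1 (hs.ge (Set.mem_univ y))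
    exact ⟨⟨x, hx⟩, hy⟩
  haveI : IsAffineHom (c.π.app i) := isAffineHom_π_app D c hc i
  haveI := fun a => finite_chartΓ hM hft (U a).2
  let C := fun a => (nonempty_algColim hc (U a).2).some
  constructor
  · intro h
    have hq := (Z.iff_cover (c.π.app i) U hU hM hft).1 h
    choose j hj using fun a => hdesc (U a) (C a) (hq a)
    obtain ⟨k, hk⟩ := IsCofiltered.inf_objs_exists (Finset.univ.image j)
    refine ⟨k.left, k.hom, (Z.iff_cover (D.map k.hom) U hU hM hft).2 fun a => ?_⟩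
    exact Z.push ((C a).t (hk (Finset.mem_image_of_mem j (Finset.mem_univ a))).some) _ (hj a)
  · rintro ⟨j, φ, h⟩
    refine (Z.iff_cover (c.π.app i) U hU hM hft).2 fun a => ?_
    exact Z.push ((C a).p (Over.mk φ)) _ ((Z.iff_cover (D.map φ) U hU hM hft).1 h a)

/-- Finite locally free. -/
noncomputable def flfProp : ObjProp.{u} where
  P M := FlatMod.IsFinLocFree M
  Q A B _ _ _ M _ _ := Module.Projective B (B ⊗[A] M)
  iso e := ConsPropLib.isFinLocFree_iso e
  restrict j _ hj M := ⟨fun h a => ConsPropLib.isFinLocFree_restrict (j a) h, ConsPropLib.isFinLocFree_of_cover j hj⟩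
  tilde {A} _ {B} φ M _ := by
    letI := φ.toAlgebra
    exact (QCoh.isFinLocFree_tilde_iff _).trans
      ⟨fun h => h.2, fun h => ⟨inferInstanceAs (Module.Finite B (B ⊗[A] M)), h⟩⟩
  push f _ _ _ _ h := projective_of_algHom f h

/-- Finite locally free of given rank. -/
noncomputable def flfRankProp (n : ℕ) : ObjProp.{u} where
  P M := FlatMod.IsFinLocFreeOfRank n M
  Q A B _ _ _ M _ _ := Module.Projective B (B ⊗[A] M) ∧ ∀ Q, Module.rankAtStalk (R := B) (B ⊗[A] M) Q = n
  iso e := ConsPropLib.isFinLocFreeOfRank_iso e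
  restrict j _ hj M :=
    ⟨fun h a => ConsPropLib.isFinLocFreeOfRank_restrict (j a) h, ConsPropLib.isFinLocFreeOfRank_of_cover j hj⟩
  tilde {A} _ {B} φ M _ := by
    letI := φ.toAlgebra
    exact (ConsPropLib.isFinLocFreeOfRank_tilde_iff _ n).trans
      ⟨fun h => h.2, fun h => ⟨inferInstanceAs (Module.Finite B (B ⊗[A] M)), h⟩⟩
  push f _ _ _ _ h := by
    haveI := h.1
    exact ⟨projective_of_algHom f h.1, fun Q => (rankAtStalk_algHom f Q).trans (h.2 _)⟩

variable {M : (D.obj i).Modules}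

include hc in
theorem isFinLocFree_iff_eventually (hM : Coh.IsQCoh M) (hfp : CohB1.IsFP M) :
    FlatMod.IsFinLocFree ((Scheme.Modules.pullback (c.π.app i)).obj M) ↔
      ∃ (j : I) (φ : j ⟶ i), FlatMod.IsFinLocFree ((Scheme.Modules.pullback (D.map φ)).obj M) := by
  refine flfProp.iff_eventually hc hM (isFT_of_isFP hM hfp) fun U C h => ?_
  haveI := finitePresentation_chartΓ hfp U.2
  obtain ⟨j, _, hj⟩ := C.exists_projective (Over.mk (𝟙 i)) h
  exact ⟨j, hj⟩

include hc in
theorem isFinLocFreeOfRank_iff_eventually (n : ℕ) (hM : Coh.IsQCoh M) (hfp : CohB1.IsFP M) :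
    FlatMod.IsFinLocFreeOfRank n ((Scheme.Modules.pullback (c.π.app i)).obj M) ↔
      ∃ (j : I) (φ : j ⟶ i), FlatMod.IsFinLocFreeOfRank n ((Scheme.Modules.pullback (D.map φ)).obj M) := by
  refine (flfRankProp n).iff_eventually hc hM (isFT_of_isFP hM hfp) fun U C h => ?_
  haveI := finitePresentation_chartΓ hfp U.2
  obtain ⟨j, _, hj⟩ := C.exists_rank n (Over.mk (𝟙 i)) h.1 h.2
  exact ⟨j, hj⟩

end Groth.Agent.LimModLib
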