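import Groth.Agent.LimModLib.FP
import Groth.Agent.FittX.Sheaf

/-!
# Right exact sequences along limits
-/

set_option autoImplicit false
set_option backward.isDefEq.respectTransparency false
set_option backward.isDefEq.respectTransparency.types false

universe u

open CategoryTheory CategoryTheory.Limits AlgebraicGeometry Opposite TopologicalSpace

namespace Groth.Agent.LimModLib

variable {C C' : Type*} [Category C] [Category C'] [Abelian C] [Abelian C'] {A B E : C}

/-- A sequence `A ⟶ B ⟶ E ⟶ 0` is exact. -/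
def RExact (f : A ⟶ B) (g : B ⟶ E) : Prop := ∃ w : f ≫ g = 0, (ShortComplex.mk f g w).Exact ∧ Epi g

theorem rExact_of_iso {A' B' E' : C} (a : A ≅ A') (b : B ≅ B') (e : E ≅ E') {f : A ⟶ B} {g : B ⟶ E}
    {f' : A' ⟶ B'} {g' : B' ⟶ E'} (hf : a.hom ≫ f' = f ≫ b.hom) (hg : b.hom ≫ g' = g ≫ e.hom)
    (h : RExact f g) : RExact f' g' := by
  obtain ⟨w, hex, hepi⟩ := h
  have w' : f' ≫ g' = 0 := by
    rw [← cancel_epi a.hom, ← Category.assoc, hf, Category.assoc, hg, ← Category.assoc, w, zero_comp, comp_zero]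
  refine ⟨w', (ShortComplex.exact_iff_of_iso (ShortComplex.isoMk (S₁ := ShortComplex.mk f g w)
    (S₂ := ShortComplex.mk f' g' w') a b e hf hg)).1 hex, ?_⟩
  have : g' = b.inv ≫ g ≫ e.hom := by rw [← hg, Iso.inv_hom_id_assoc]
  rw [this]; infer_instance

theorem rExact_map_iff (F : C ⥤ C') [F.PreservesZeroMorphisms] [PreservesColimitsOfShape WalkingParallelPair F]
    {f : A ⟶ B} {g : B ⟶ E} (w : f ≫ g = 0) :
    RExact (F.map f) (F.map g) ↔ IsIso (F.map (cokernel.desc f g w)) := by
  set q := cokernel.desc f g w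
  have hc := isColimitCoforkMapOfIsColimit' F (cokernel.condition f) (cokernelIsCokernel f)
  have hfac : F.map (cokernel.π f) ≫ F.map q = F.map g := by rw [← F.map_comp, cokernel.π_desc]
  have wπ : F.map f ≫ F.map (cokernel.π f) = 0 := by rw [← F.map_comp, cokernel.condition, F.map_zero]
  have hπ : RExact (F.map f) (F.map (cokernel.π f)) := by
    obtain ⟨h1, h2⟩ := (ShortComplex.mk _ _ wπ).exact_and_epi_g_iff_g_is_cokernel.2 ⟨hc⟩
    exact ⟨wπ, h1, h2⟩
  constructor
  · rintro ⟨w', hex, hepi⟩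
    obtain ⟨hc'⟩ := (ShortComplex.mk _ _ w').exact_and_epi_g_iff_g_is_cokernel.1 ⟨hex, hepi⟩
    have he : F.map (cokernel.π f) ≫ (hc.coconePointUniqueUpToIso hc').hom = F.map g :=
      IsColimit.comp_coconePointUniqueUpToIso_hom hc hc' WalkingParallelPair.one
    haveI := hπ.2.2
    rw [(cancel_epi (F.map (cokernel.π f))).1 (hfac.trans he.symm)]
    infer_instance
  · intro h
    exact rExact_of_iso (Iso.refl _) (Iso.refl _) (asIso (F.map q))
      (show _ = F.map f ≫ _ by simp) (show 𝟙 _ ≫ F.map g = _ by simp [hfac]) hπ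

theorem rExact_map (F : C ⥤ C') [F.PreservesZeroMorphisms] [PreservesColimitsOfShape WalkingParallelPair F]
    {f : A ⟶ B} {g : B ⟶ E} (h : RExact f g) : RExact (F.map f) (F.map g) := by
  obtain ⟨w, hex, hepi⟩ := h
  refine (rExact_map_iff F w).2 ?_
  haveI : IsIso (cokernel.desc f g w) := by
    have := hepi
    obtain ⟨hc⟩ := (ShortComplex.mk f g w).exact_and_epi_g_iff_g_is_cokernel.1 ⟨hex, hepi⟩
    rw [(cancel_epi (cokernel.π f)).1 ((cokernel.π_desc f g w).trans
      (IsColimit.comp_coconePointUniqueUpToIso_hom (cokernelIsCokernel f) hc WalkingParallelPair.one).symm)]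
    infer_instance
  infer_instance

theorem rExact_pullback_comp {X Y Z : Scheme.{u}} {a : Z ⟶ Y} {b : Y ⟶ X} {c : Z ⟶ X} (e : a ≫ b = c)
    {F G H : X.Modules} (f : F ⟶ G) (g : G ⟶ H) :
    RExact ((Scheme.Modules.pullback a).map ((Scheme.Modules.pullback b).map f))
        ((Scheme.Modules.pullback a).map ((Scheme.Modules.pullback b).map g)) ↔
      RExact ((Scheme.Modules.pullback c).map f) ((Scheme.Modules.pullback c).map g) := by
  let t := Scheme.Modules.pullbackComp a b ≪≫ Scheme.Modules.pullbackCongr e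
  exact ⟨rExact_of_iso (t.app F) (t.app G) (t.app H) (t.hom.naturality f).symm (t.hom.naturality g).symm,
    rExact_of_iso (t.app F).symm (t.app G).symm (t.app H).symm (t.inv.naturality f).symm (t.inv.naturality g).symm⟩

variable {I : Type u} [SmallCategory I] [IsCofiltered I] {D : I ⥤ Scheme.{u}} {c : Cone D}
  (hc : IsLimit c) [∀ {i j : I} (f : i ⟶ j), IsAffineHom (D.map f)] {i : I} [CompactSpace (D.obj i)]
  {F G H : (D.obj i).Modules}

omit [IsCofiltered I] in
theorem isFT_cokernel {X : Scheme.{u}} {M N : X.Modules} (hM : Coh.IsQCoh M) (hN : Coh.IsQCoh N)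
    (hNft : CohB1.IsFT N) (φ : M ⟶ N) : CohB1.IsFT (cokernel φ) := by
  have hQ := QCoh.isQCoh_cokernel hM hN φ
  refine (QCoh.isFT_iff hQ).2 fun U => ?_
  haveI := QCoh.finite_of_isFT hN hNft U.2
  exact Module.Finite.of_surjective
    ({ toFun := (cokernel.π φ).app U.1, map_add' := map_add ((cokernel.π φ).app U.1).hom,
       map_smul' := fun r x => (cokernel.π φ).app_smul r x } : Γ(N, U.1) →ₗ[Γ(X, U.1)] Γ(cokernel φ, U.1))
    (QCoh.app_surjective_of_epi hN hQ (cokernel.π φ) U.2)

include hc in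
theorem rExact_iff_eventually (hF : Coh.IsQCoh F) (hFft : CohB1.IsFT F) (hG : Coh.IsQCoh G)
    (hGft : CohB1.IsFT G) (hH : Coh.IsQCoh H) (hHfp : CohB1.IsFP H) (f : F ⟶ G) (g : G ⟶ H) :
    RExact ((Scheme.Modules.pullback (c.π.app i)).map f) ((Scheme.Modules.pullback (c.π.app i)).map g) ↔
      ∃ (j : I) (φ : j ⟶ i),
        RExact ((Scheme.Modules.pullback (D.map φ)).map f) ((Scheme.Modules.pullback (D.map φ)).map g) := by
  constructor
  · intro h
    obtain ⟨j, φ, hj⟩ := (map_eq_zero_iff_eventually hc hF hFft hH (f ≫ g)).1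
      (by rw [Functor.map_comp]; exact h.1)
    rw [Functor.map_comp] at hj
    let P := Scheme.Modules.pullback (D.map φ)
    let D' := Over.forget j ⋙ D
    haveI : ∀ {a b : Over j} (r : a ⟶ b), IsAffineHom (D'.map r) := fun r => by
      show IsAffineHom (D.map r.left); infer_instance
    have hc' := (Functor.Initial.isLimitWhiskerEquiv (Over.forget j) c).symm hc
    haveI : CompactSpace (D'.obj (Over.mk (𝟙 j))) :=
      show CompactSpace (D.obj j) from QuasiCompact.compactSpace_of_compactSpace (D.map φ)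
    have hG' := QCoh.isQCoh_pullback (D.map φ) hG
    have hF' := QCoh.isQCoh_pullback (D.map φ) hF
    have hq : IsIso ((Scheme.Modules.pullback (c.π.app j)).map (cokernel.desc (P.map f) (P.map g) hj)) :=
      (rExact_map_iff _ hj).1 ((rExact_pullback_comp (c.w φ) f g).2 h)
    obtain ⟨k, r, hk⟩ := (isIso_map_iff_eventually (D := D') (c := c.whisker (Over.forget j)) hc'
      (i := Over.mk (𝟙 j)) (QCoh.isQCoh_cokernel hF' hG' _)
      (isFT_cokernel hF' hG' (FittX.isFT_pullback (D.map φ) hG hGft) _) (QCoh.isQCoh_pullback (D.map φ) hH)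
      (isFP_pullback (D.map φ) hH hHfp) (cokernel.desc (P.map f) (P.map g) hj)).1 hq
    refine ⟨k.left, r.left ≫ φ, (rExact_pullback_comp (a := D'.map r) (b := D.map φ) ?_ f g).1
      ((rExact_map_iff _ hj).2 hk)⟩
    exact (D.map_comp _ _).symm
  · rintro ⟨j, φ, h⟩
    exact (rExact_pullback_comp (c.w φ) f g).1 (rExact_map (Scheme.Modules.pullback (c.π.app j)) h)

end Groth.Agent.LimModLib
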