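import Groth.Agent.QCoh.PullbackBC
import Groth.Agent.QCoh.FT
import Groth.Agent.QCoh.Sections
import Mathlib.Topology.Sheaves.SheafCondition.UniqueGluing

/-!
# Morphisms of modules defined on the opens inside a given open
-/

set_option autoImplicit false
set_option backward.isDefEq.respectTransparency false
set_option backward.isDefEq.respectTransparency.types false

universe u

open CategoryTheory CategoryTheory.Limits AlgebraicGeometry Opposite TopologicalSpace

namespace Groth.Agent.LimModLib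

variable {X : Scheme.{u}}

/-- A morphism `M → P` defined on the opens contained in `U`. -/
structure LHom (M P : X.Modules) (U : X.Opens) where
  app : ∀ V : X.Opens, V ≤ U → Γ(M, V) →+ Γ(P, V)
  smul : ∀ (V : X.Opens) (h : V ≤ U) (r : Γ(X, V)) (s : Γ(M, V)), app V h (r • s) = r • app V h s
  nat : ∀ (V W : X.Opens) (h : V ≤ U) (h' : W ≤ V) (s : Γ(M, V)),
    P.presheaf.map (homOfLE h').op (app V h s) = app W (h'.trans h) (M.presheaf.map (homOfLE h').op s)

namespace LHom

variable {M P : X.Modules} {U : X.Opens}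

/-- A morphism of modules restricts to any open. -/
noncomputable def ofHom (φ : M ⟶ P) (U : X.Opens) : LHom M P U where
  app V _ := AddMonoidHom.mk' (φ.app V) (map_add (φ.app V).hom)
  smul V _ r s := φ.app_smul r s
  nat V W _ h' s := (QCoh.map_app_comm φ (homOfLE h') s).symm

/-- The global sections of a local morphism. -/
noncomputable def top (l : LHom M P U) : Γ(M, U) →ₗ[Γ(X, U)] Γ(P, U) where
  toFun := l.app U le_rfl
  map_add' := map_add _
  map_smul' := l.smul U le_rfl

/-- A local morphism out of a quasi-coherent module on an affine open is determined by its sections there. -/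
theorem ext_top (hM : Coh.IsQCoh M) (hU : IsAffineOpen U) (l l' : LHom M P U)
    (h : ∀ s, l.app U le_rfl s = l'.app U le_rfl s) (V : X.Opens) (hV : V ≤ U) (s : Γ(M, V)) :
    l.app V hV s = l'.app V hV s := by
  rw [← sub_eq_zero]
  refine QCoh.eq_zero_of_locally V _ fun x hx => ?_
  obtain ⟨f, hf, hxf⟩ := hU.exists_basicOpen_le ⟨x, hx⟩ (hV hx)
  refine ⟨X.basicOpen f, homOfLE hf, hxf, ?_⟩
  obtain ⟨n, t, ht⟩ := QCoh.exists_pow_smul_eq_map hM hU f (M.presheaf.map (homOfLE hf).op s)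
  have key : ∀ m : LHom M P U, X.presheaf.map (homOfLE (X.basicOpen_le f)).op f ^ n •
      m.app _ (hf.trans hV) (M.presheaf.map (homOfLE hf).op s) =
      P.presheaf.map (homOfLE (X.basicOpen_le f)).op (m.app U le_rfl t) := fun m => by
    rw [m.nat U _ le_rfl (X.basicOpen_le f) t, ← m.smul, ← ht]
  have hu : IsUnit (X.presheaf.map (homOfLE (X.basicOpen_le f)).op f ^ n) :=
    (RingedSpace.isUnit_res_basicOpen X.toRingedSpace f).pow n
  rw [map_sub, l.nat V _ hV hf, l'.nat V _ hV hf, sub_eq_zero, ← hu.smul_left_cancel, key, key, h]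

/-- A linear map on an affine open extends to a local morphism. -/
theorem exists_of_top (hM : Coh.IsQCoh M) (hU : IsAffineOpen U) (ℓ : Γ(M, U) →ₗ[Γ(X, U)] Γ(P, U)) :
    ∃ l : LHom M P U, ∀ s, l.app U le_rfl s = ℓ s := by
  let i := hU.fromSpec
  let eM : Γ(M, U) ≃ₗ[Γ(X, U)] moduleSpecΓFunctor.obj (M.restrict i) := QCoh.chartEquiv hU M
  let eP : Γ(P, U) ≃ₗ[Γ(X, U)] moduleSpecΓFunctor.obj (P.restrict i) := QCoh.chartEquiv hU P
  obtain ⟨ψ, hψ⟩ := (QCoh.bijective_ΓMap (QCoh.isQCoh_restrict i hM) (P.restrict i)).2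
    (@ModuleCat.ofHom _ _ (moduleSpecΓFunctor.obj (M.restrict i)) (moduleSpecΓFunctor.obj (P.restrict i)) _
      (moduleSpecΓFunctor.obj (M.restrict i)).isModule _ (moduleSpecΓFunctor.obj (P.restrict i)).isModule
      (eP.toLinearMap ∘ₗ ℓ ∘ₗ eM.symm.toLinearMap))
  have him : ∀ V : X.Opens, V ≤ U → i ''ᵁ (i ⁻¹ᵁ V) = V := fun V hV => by
    rw [i.image_preimage_eq_opensRange_inf, hU.opensRange_fromSpec, inf_eq_right]
    exact hV
  let F : ∀ V : X.Opens, V ≤ U → Γ(M, V) →+ Γ(P, V) := fun V hV =>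
    AddMonoidHom.mk' (fun s => P.presheaf.map (homOfLE (him V hV).ge).op
      (show Γ(P, i ''ᵁ (i ⁻¹ᵁ V)) from ψ.app (i ⁻¹ᵁ V)
        (show Γ(M.restrict i, i ⁻¹ᵁ V) from M.presheaf.map (homOfLE (him V hV).le).op s)))
      fun a b => by
        rw [map_add (M.presheaf.map (homOfLE (him V hV).le).op).hom]
        refine (congrArg (P.presheaf.map (homOfLE (him V hV).ge).op) (map_add (ψ.app (i ⁻¹ᵁ V)).hom _ _)).trans ?_
        exact map_add (P.presheaf.map (homOfLE (him V hV).ge).op).hom _ _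
  refine ⟨{ app := F, smul := fun V hV r s => ?_, nat := fun V W hV hW s => ?_ }, fun s => ?_⟩
  · show P.presheaf.map (homOfLE (him V hV).ge).op (show Γ(P, i ''ᵁ (i ⁻¹ᵁ V)) from ψ.app (i ⁻¹ᵁ V)
      (show Γ(M.restrict i, i ⁻¹ᵁ V) from M.presheaf.map (homOfLE (him V hV).le).op (r • s))) = r • F V hV s
    have h1 : (show Γ(M.restrict i, i ⁻¹ᵁ V) from M.presheaf.map (homOfLE (him V hV).le).op (r • s)) =
        ((i.appIso (i ⁻¹ᵁ V)).hom (X.presheaf.map (homOfLE (him V hV).le).op r)) •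
          (show Γ(M.restrict i, i ⁻¹ᵁ V) from M.presheaf.map (homOfLE (him V hV).le).op s) := by
      show M.presheaf.map (homOfLE (him V hV).le).op (r • s) =
        (i.appIso (i ⁻¹ᵁ V)).inv ((i.appIso (i ⁻¹ᵁ V)).hom (X.presheaf.map (homOfLE (him V hV).le).op r)) •
          M.presheaf.map (homOfLE (him V hV).le).op s
      rw [Iso.hom_inv_id_apply]
      exact QCoh.map_smul' _ _ _
    rw [h1, Scheme.Modules.Hom.app_smul]
    show P.presheaf.map (homOfLE (him V hV).ge).op
      ((i.appIso (i ⁻¹ᵁ V)).inv ((i.appIso (i ⁻¹ᵁ V)).hom (X.presheaf.map (homOfLE (him V hV).le).op r)) • _) = _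
    rw [Iso.hom_inv_id_apply, QCoh.map_smul', QCoh.ringMap_map, QCoh.ringMap_id]
    rfl
  · show P.presheaf.map (homOfLE hW).op (P.presheaf.map (homOfLE (him V hV).ge).op
      (show Γ(P, i ''ᵁ (i ⁻¹ᵁ V)) from ψ.app (i ⁻¹ᵁ V) _)) = _
    have hiW : i ⁻¹ᵁ W ≤ i ⁻¹ᵁ V := Scheme.Hom.preimage_mono _ hW
    have h2 := (QCoh.map_app_comm ψ (homOfLE hiW)
      (show Γ(M.restrict i, i ⁻¹ᵁ V) from M.presheaf.map (homOfLE (him V hV).le).op s)).symm
    have h3 : (show Γ(M.restrict i, i ⁻¹ᵁ W) from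
        M.presheaf.map (homOfLE (him W (hW.trans hV)).le).op (M.presheaf.map (homOfLE hW).op s)) =
        (M.restrict i).presheaf.map (homOfLE hiW).op
          (show Γ(M.restrict i, i ⁻¹ᵁ V) from M.presheaf.map (homOfLE (him V hV).le).op s) :=
      (QCoh.map_map _ _ _).trans (QCoh.map_map (M := M) (i.opensFunctor.map (homOfLE hiW))
        (homOfLE (him V hV).le) s).symm
    show _ = P.presheaf.map (homOfLE (him W (hW.trans hV)).ge).op (show Γ(P, i ''ᵁ (i ⁻¹ᵁ W)) from ψ.app (i ⁻¹ᵁ W)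
      (show Γ(M.restrict i, i ⁻¹ᵁ W) from
        M.presheaf.map (homOfLE (him W (hW.trans hV)).le).op (M.presheaf.map (homOfLE hW).op s)))
    rw [h3, ← h2, QCoh.map_map]
    exact (QCoh.map_map (M := P) (homOfLE (him W (hW.trans hV)).ge) (i.opensFunctor.map (homOfLE hiW)) _).symm
  · have e : moduleSpecΓFunctor.map ψ (eM s) = eP (ℓ s) := by
      rw [show moduleSpecΓFunctor.map ψ = _ from hψ]
      exact congrArg (fun x => eP (ℓ x)) (eM.symm_apply_apply s)
    apply eP.injective
    refine Eq.trans ?_ e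
    show QCoh.toChart hU P (F U le_rfl s) = (show Γ(P.restrict i, ⊤) from ψ.app ⊤ (QCoh.toChart hU M s))
    have hle : (⊤ : (Spec Γ(X, U)).Opens) ≤ i ⁻¹ᵁ U := hU.fromSpec_preimage_self.ge
    have h4 := QCoh.map_app_comm ψ (homOfLE hle)
      (show Γ(M.restrict i, i ⁻¹ᵁ U) from M.presheaf.map (homOfLE (him U le_rfl).le).op s)
    have h5 : (show Γ(M.restrict i, ⊤) from QCoh.toChart hU M s) = (M.restrict i).presheaf.map (homOfLE hle).op
        (show Γ(M.restrict i, i ⁻¹ᵁ U) from M.presheaf.map (homOfLE (him U le_rfl).le).op s) :=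
      (QCoh.map_map (M := M) (i.opensFunctor.map (homOfLE hle)) (homOfLE (him U le_rfl).le) s).symm
    refine Eq.trans ?_ ((congrArg (fun z => ψ.app ⊤ z) h5).trans h4).symm
    exact QCoh.map_map _ _ _

/-- Composition with a natural linear family. -/
noncomputable def map {P' : X.Modules} (τ : ∀ V : X.Opens, Γ(P, V) →+ Γ(P', V))
    (hs : ∀ (V : X.Opens) (r : Γ(X, V)) (y : Γ(P, V)), τ V (r • y) = r • τ V y)
    (hn : ∀ (V W : X.Opens) (h : W ≤ V) (y : Γ(P, V)),
      P'.presheaf.map (homOfLE h).op (τ V y) = τ W (P.presheaf.map (homOfLE h).op y))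
    (l : LHom M P U) : LHom M P' U where
  app V h := (τ V).comp (l.app V h)
  smul V h r s := by rw [AddMonoidHom.comp_apply, l.smul, hs, AddMonoidHom.comp_apply]
  nat V W h h' s := by rw [AddMonoidHom.comp_apply, hn, l.nat, AddMonoidHom.comp_apply]

/-- Restriction to a smaller open. -/
noncomputable def res (l : LHom M P U) {U' : X.Opens} (h : U' ≤ U) : LHom M P U' where
  app V hV := l.app V (hV.trans h)
  smul V hV r s := l.smul V (hV.trans h) r s
  nat V W hV h' s := l.nat V W (hV.trans h) h' s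

/-- Two local morphisms agreeing on a cover agree. -/
theorem eq_of_cover {U' : X.Opens} (l : LHom M P U) (l' : LHom M P U') {ι : Type*} (O : ι → X.Opens)
    (hO : U ⊓ U' ≤ ⨆ a, O a) (hle : ∀ a, O a ≤ U ⊓ U')
    (h : ∀ a (V : X.Opens) (hV : V ≤ O a) (s : Γ(M, V)),
      l.app V (hV.trans ((hle a).trans inf_le_left)) s = l'.app V (hV.trans ((hle a).trans inf_le_right)) s)
    (V : X.Opens) (hV : V ≤ U) (hV' : V ≤ U') (s : Γ(M, V)) : l.app V hV s = l'.app V hV' s := by
  rw [← sub_eq_zero]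
  refine QCoh.eq_zero_of_locally V _ fun x hx => ?_
  obtain ⟨a, ha⟩ := Opens.mem_iSup.1 (hO ⟨hV hx, hV' hx⟩)
  refine ⟨V ⊓ O a, homOfLE inf_le_left, ⟨hx, ha⟩, ?_⟩
  rw [map_sub, l.nat V _ hV inf_le_left, l'.nat V _ hV' inf_le_left, sub_eq_zero]
  exact h a _ inf_le_right _

/-- Local morphisms on a cover which agree on overlaps glue. -/
theorem exists_glue {ι : Type*} (U : ι → X.Opens) (hU : ∀ x : X, ∃ a, x ∈ U a) (l : ∀ a, LHom M P (U a))
    (h : ∀ a b (V : X.Opens) (hV : V ≤ U a) (hV' : V ≤ U b) (s : Γ(M, V)),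
      (l a).app V hV s = (l b).app V hV' s) :
    ∃ φ : M ⟶ P, ∀ a (V : X.Opens) (hV : V ≤ U a) (s : Γ(M, V)), φ.app V s = (l a).app V hV s := by
  have hg : ∀ (V : X.Opens) (s : Γ(M, V)), ∃ t : Γ(P, V), ∀ a (W : X.Opens) (hWV : W ≤ V) (hW : W ≤ U a),
      P.presheaf.map (homOfLE hWV).op t = (l a).app W hW (M.presheaf.map (homOfLE hWV).op s) := by
    intro V s
    obtain ⟨t, ht, -⟩ := TopCat.Sheaf.existsUnique_gluing' ⟨P.presheaf, Scheme.Modules.isSheaf P⟩
      (fun a => V ⊓ U a) V (fun a => homOfLE inf_le_left)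
      (fun x hx => by
        obtain ⟨a, ha⟩ := hU x
        exact Opens.mem_iSup.2 ⟨a, hx, ha⟩)
      (fun a => (l a).app (V ⊓ U a) inf_le_right (M.presheaf.map (homOfLE inf_le_left).op s))
      (fun a b => by
        show P.presheaf.map (homOfLE inf_le_left).op _ = P.presheaf.map (homOfLE inf_le_right).op _
        rw [(l a).nat, (l b).nat, h a b _ (inf_le_left.trans inf_le_right) (inf_le_right.trans inf_le_right),
          QCoh.map_map, QCoh.map_map]
        rfl)
    refine ⟨t, fun a W hWV hW => ?_⟩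
    have e := congrArg (P.presheaf.map (homOfLE (le_inf hWV hW : W ≤ V ⊓ U a)).op) (ht a)
    rw [(l a).nat] at e
    refine ((QCoh.map_map _ _ _).symm.trans e).trans (congrArg ((l a).app W hW) ?_)
    exact QCoh.map_map _ _ _
  choose g hg' using hg
  have huniq : ∀ (V : X.Opens) (s : Γ(M, V)) (t : Γ(P, V)),
      (∀ a (W : X.Opens) (hWV : W ≤ V) (hW : W ≤ U a),
        P.presheaf.map (homOfLE hWV).op t = (l a).app W hW (M.presheaf.map (homOfLE hWV).op s)) → g V s = t := by
    intro V s t ht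
    rw [← sub_eq_zero]
    refine QCoh.eq_zero_of_locally V _ fun x hx => ?_
    obtain ⟨a, ha⟩ := hU x
    refine ⟨V ⊓ U a, homOfLE inf_le_left, ⟨hx, ha⟩, ?_⟩
    rw [map_sub, hg' V s a _ inf_le_left inf_le_right, ht a _ inf_le_left inf_le_right, sub_self]
  let G : ∀ V : X.Opens, Γ(M, V) →+ Γ(P, V) := fun V => AddMonoidHom.mk' (g V) fun s s' =>
    huniq V _ _ fun a W hWV hW => by
      rw [map_add, hg' V s a W hWV hW, hg' V s' a W hWV hW, map_add (M.presheaf.map _).hom, map_add]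
  refine ⟨⟨PresheafOfModules.homMk
    { app := fun V => AddCommGrpCat.ofHom (G V.unop)
      naturality := fun V V' i => by
        ext s
        refine huniq V'.unop _ _ fun a W hWV hW => ?_
        show P.presheaf.map (homOfLE hWV).op (P.presheaf.map i.unop.op (g V.unop s)) = _
        rw [QCoh.map_map]
        refine (hg' V.unop s a W (hWV.trans i.unop.le) hW).trans (congrArg ((l a).app W hW) ?_)
        exact (QCoh.map_map (homOfLE hWV) i.unop s).symm }
    (fun V (r : Γ(X, V.unop)) (s : Γ(M, V.unop)) => show g V.unop (r • s) = r • g V.unop s from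
      huniq V.unop _ _ fun a W hWV hW => by
        rw [QCoh.map_smul', QCoh.map_smul', hg' V.unop s a W hWV hW, (l a).smul])⟩,
    fun a V hV s => ?_⟩
  show g V s = _
  have e := hg' V s a V le_rfl hV
  rw [QCoh.map_id', QCoh.map_id'] at e
  exact e

end LHom

end Groth.Agent.LimModLib
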