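import Groth.Agent.LimModLib.Props
import Groth.Agent.QCoh.SubCompare

/-!
# Kernels of surjections onto finitely presented modules
-/

set_option autoImplicit false
set_option backward.isDefEq.respectTransparency false
set_option backward.isDefEq.respectTransparency.types false

universe u

open CategoryTheory CategoryTheory.Limits AlgebraicGeometry Opposite TopologicalSpace

namespace Groth.Agent.LimModLib

variable {X : Scheme.{u}} {M N : X.Modules}

theorem isFT_kernel (hM : Coh.IsQCoh M) (hMft : CohB1.IsFT M) (hN : Coh.IsQCoh N) (hNfp : CohB1.IsFP N)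
    (p : M ⟶ N) [Epi p] : CohB1.IsFT (kernel p) := by
  have hK := QCoh.isQCoh_kernel hM hN p
  refine QCoh.isFT_of_finite hK (fun U : X.affineOpens => U.1) ?_ (fun U => U.2) fun U => ?_
  · exact top_le_iff.1 fun x _ => Opens.mem_iSup.2 <| by
      obtain ⟨_, ⟨U, hU, rfl⟩, hxU, -⟩ :=
        X.isBasis_affineOpens.exists_subset_of_mem_open (Set.mem_univ x) isOpen_univ
      exact ⟨⟨U, hU⟩, hxU⟩
  · haveI := QCoh.finite_of_isFT hM hMft U.2
    haveI := QCoh.finitePresentation_of_isFP hNfp U.2
    have hfg := Module.FinitePresentation.fg_ker (QCoh.appLin p U.1) (QCoh.app_surjective_of_epi hM hN p U.2)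
    haveI : Module.Finite Γ(X, U.1) (LinearMap.ker (QCoh.appLin p U.1)) := Module.Finite.iff_fg.2 hfg
    let l : Γ(kernel p, U.1) →ₗ[Γ(X, U.1)] LinearMap.ker (QCoh.appLin p U.1) :=
      (QCoh.appLin (kernel.ι p) U.1).codRestrict _ fun y =>
        LinearMap.mem_ker.2 (congrArg (fun ψ : kernel p ⟶ N => ψ.app U.1 y) (kernel.condition p))
    have hl : Function.Bijective l := by
      refine ⟨fun a b h => QCoh.app_injective (kernel.ι p) U.1 (congrArg Subtype.val h), fun y => ?_⟩
      obtain ⟨a, ha⟩ := QCoh.exists_app_f_eq (S := ShortComplex.mk (kernel.ι p) p (kernel.condition p))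
        { exact := ShortComplex.exact_kernel p, mono_f := inferInstance, epi_g := inferInstance } U.1 y.1
        (show p.app U.1 y.1 = 0 from y.2)
      exact ⟨a, Subtype.ext ha⟩
    exact Module.Finite.equiv (LinearEquiv.ofBijective l hl).symm

end Groth.Agent.LimModLib
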