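import Groth.Agent.LimModLib.Props
import Groth.Agent.MorLib.BaseChangeLim
import Groth.Prelude.Def_FlatFun

/-!
# Flattening-type functors are limit preserving
-/

set_option autoImplicit false
set_option backward.isDefEq.respectTransparency false
set_option backward.isDefEq.respectTransparency.types false

universe u

open CategoryTheory CategoryTheory.Limits AlgebraicGeometry Opposite TopologicalSpace

namespace Groth.Agent.LimModLib

theorem ChartProp.of_factor (Z : ChartProp.{u}) {X Y Y' : Scheme.{u}} {b : Y ⟶ X} {b' : Y' ⟶ X} (a : Y' ⟶ Y)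
    (e : a ≫ b = b') {M N : X.Modules} (d : M ⟶ N) (h : Z.P ((Scheme.Modules.pullback b).map d)) :
    Z.P ((Scheme.Modules.pullback b').map d) :=
  let t := Scheme.Modules.pullbackComp a b ≪≫ Scheme.Modules.pullbackCongr e
  (Z.iso _ _ (Arrow.isoMk (t.app M) (t.app N) (t.hom.naturality d).symm)).1 (Z.pullback a _ h)

/-- A subfunctor of the final functor given by a stable condition which descends along limits. -/
theorem isLimitPreserving_genPSp {S : Scheme.{u}} (P : Over S → Prop)
    (hP : ∀ ⦃T T₀ : Over S⦄ (_ : T ⟶ T₀), P T₀ → P T)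
    (hlim : ∀ (I : Type u) [SmallCategory I] [IsCofiltered I] (D : I ⥤ Over S) (c : Cone D),
      IsLimit ((Over.forget S).mapCone c) → (∀ i, IsAffine (D.obj i).left) → IsAffine c.pt.left →
      P c.pt → ∃ i, P (D.obj i)) :
    AlgSp.IsLimitPreserving (FlatFun.genPSp S P) := by
  intro I _ _ D c hc hD hT
  refine ⟨Types.FilteredColimit.isColimitOf _ _ (fun x => ?_) (fun i j xi xj _ => ?_)⟩
  · obtain ⟨i, hi⟩ := hlim I D c hc hD hT ((FlatFun.genPSp_nonempty_iff_of_stable P hP c.pt).1 ⟨x⟩)
    exact ⟨op i, (FlatFun.genPSp_nonempty_of P hi).some, @Subsingleton.elim _ (FlatFun.genPSp_subsingleton _ P _) _ _⟩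
  · exact ⟨op (IsCofiltered.min i.unop j.unop), (IsCofiltered.minToLeft _ _).op, (IsCofiltered.minToRight _ _).op,
      @Subsingleton.elim _ (FlatFun.genPSp_subsingleton _ P _) _ _⟩

/-- The condition that a chart property holds after base change. -/
abbrev bcCond (Z : ChartProp.{u}) {X S : Scheme.{u}} (f : X ⟶ S) {F G : X.Modules} (u : F ⟶ G) (T : Over S) : Prop :=
  Z.P ((Scheme.Modules.pullback (pullback.fst f T.hom)).map u)

theorem bcCond_stable (Z : ChartProp.{u}) {X S : Scheme.{u}} (f : X ⟶ S) {F G : X.Modules} (u : F ⟶ G)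
    ⦃T T₀ : Over S⦄ (g : T ⟶ T₀) (h : bcCond Z f u T₀) : bcCond Z f u T :=
  Z.of_factor (pullback.map f T.hom f T₀.hom (𝟙 X) g.left (𝟙 S) (by simp) (by rw [Category.comp_id]; exact (Over.w g).symm))
    (by rw [pullback.lift_fst, Category.comp_id]) u h

/-- Limit preservation for a chart property of a morphism of modules. -/
theorem isLimitPreserving_bcCond (Z : ChartProp.{u}) {X S : Scheme.{u}} (f : X ⟶ S) [QuasiCompact f]
    {F G : X.Modules} (u : F ⟶ G)
    (hev : ∀ {I : Type u} [SmallCategory I] [IsCofiltered I] {D : I ⥤ Scheme.{u}} {c : Cone D} (_ : IsLimit c)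
      [∀ {i j : I} (f : i ⟶ j), IsAffineHom (D.map f)] {i : I} [CompactSpace (D.obj i)] (a : D.obj i ⟶ X),
      Z.P ((Scheme.Modules.pullback (c.π.app i)).map ((Scheme.Modules.pullback a).map u)) →
        ∃ (j : I) (φ : j ⟶ i), Z.P ((Scheme.Modules.pullback (D.map φ)).map ((Scheme.Modules.pullback a).map u))) :
    AlgSp.IsLimitPreserving (FlatFun.genPSp S (bcCond Z f u)) := by
  refine isLimitPreserving_genPSp _ (bcCond_stable Z f u) fun I _ _ D c hc hD hT h => ?_
  obtain ⟨i₀⟩ := IsCofiltered.nonempty (C := I)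
  let D' : I ⥤ Scheme.{u} := D ⋙ Over.forget S
  let c' : Cone D' := (Over.forget S).mapCone c
  haveI : ∀ i, IsAffine (D'.obj i) := hD
  haveI : ∀ {i j : I} (g : i ⟶ j), IsAffineHom (D'.map g) := fun g => inferInstance
  haveI : CompactSpace ↥(pullback f (D.obj i₀).hom) :=
    haveI := hD i₀
    QuasiCompact.compactSpace_of_compactSpace (pullback.snd f (D.obj i₀).hom)
  let xi : pullback f (D.obj i₀).hom ⟶ D'.obj i₀ := pullback.snd f (D.obj i₀).hom
  have hX := IsPullback.of_hasPullback xi (c'.π.app i₀)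
  let T : Over i₀ := Over.mk (𝟙 i₀)
  haveI : IsIso (D'.map (𝟙 i₀)) := by rw [D'.map_id]; infer_instance
  haveI : CompactSpace ↥((MorLib.BC.diag D' xi).obj T) := inferInstance
  let a : (MorLib.BC.diag D' xi).obj T ⟶ X := pullback.fst xi (D'.map (𝟙 i₀)) ≫ pullback.fst f (D.obj i₀).hom
  have hcomp : ∀ {Y Y' : Scheme.{u}} (p : Y' ⟶ Y) (q : Y ⟶ X),
      Z.P ((Scheme.Modules.pullback (p ≫ q)).map u) ↔
        Z.P ((Scheme.Modules.pullback p).map ((Scheme.Modules.pullback q).map u)) := fun p q =>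
    (Z.iso _ _ (Arrow.isoMk ((Scheme.Modules.pullbackComp p q).app F) ((Scheme.Modules.pullbackComp p q).app G)
      ((Scheme.Modules.pullbackComp p q).hom.naturality u).symm)).symm
  let qT := (MorLib.BC.cone D' xi hX).π.app T
  have hlim : Z.P ((Scheme.Modules.pullback qT).map ((Scheme.Modules.pullback a).map u)) := by
    rw [← hcomp]
    have hq : qT ≫ a = pullback.fst xi (c'.π.app i₀) ≫ pullback.fst f (D.obj i₀).hom := by
      show MorLib.BC.proj D' xi hX T ≫ pullback.fst xi _ ≫ _ = _
      exact MorLib.BC.proj_fst_assoc D' xi hX T _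
    rw [hq]
    refine Z.of_factor (pullback.lift (pullback.fst xi (c'.π.app i₀) ≫ pullback.fst f (D.obj i₀).hom)
      (pullback.snd xi (c'.π.app i₀)) ?_) (pullback.lift_fst _ _ _) u h
    rw [Category.assoc, pullback.condition]
    exact (pullback.condition_assoc (f := xi) (g := c'.π.app i₀) _).trans
      (congrArg (pullback.snd xi (c'.π.app i₀) ≫ ·) (Over.w (c.π.app i₀)))
  obtain ⟨j, φ, hj⟩ := hev (MorLib.BC.isLimitCone D' xi hX hc) a hlim
  refine ⟨j.left, ?_⟩
  have hφ : (MorLib.BC.diag D' xi).map φ ≫ a = pullback.fst xi (D'.map j.hom) ≫ pullback.fst f (D.obj i₀).hom := by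
    rw [← Category.assoc]
    exact congrArg (· ≫ _) (MorLib.BC.map_fst D' xi φ)
  rw [← hcomp, hφ] at hj
  refine Z.of_factor (pullback.lift
    (pullback.lift (pullback.fst f (D.obj j.left).hom) (pullback.snd f (D.obj j.left).hom ≫ D'.map j.hom) ?_)
    (pullback.snd f (D.obj j.left).hom) (pullback.lift_snd _ _ _)) ?_ u hj
  · rw [Category.assoc, show D'.map j.hom ≫ (D.obj i₀).hom = (D.obj j.left).hom from Over.w (D.map j.hom)]
    exact pullback.condition
  · rw [pullback.lift_fst_assoc, pullback.lift_fst]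

end Groth.Agent.LimModLib
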