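import Mathlib

/-!
# Properties of linear maps along filtered colimits of algebras

`B j` is a system of `A`-algebras indexed contravariantly by a cofiltered category, with colimit `Binf`.
-/

set_option autoImplicit false
set_option backward.isDefEq.respectTransparency false
set_option backward.isDefEq.respectTransparency.types false

universe u

open CategoryTheory TensorProduct

namespace Groth.Agent.LimModLib

/-- A filtered system of algebras with a colimit, in elementary terms. -/
structure AlgColim (A : Type u) [CommRing A] (J : Type u) [SmallCategory J] (B : J → Type u)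
    [∀ j, CommRing (B j)] [∀ j, Algebra A (B j)] (Binf : Type u) [CommRing Binf] [Algebra A Binf] where
  t : ∀ {j k : J}, (k ⟶ j) → (B j →ₐ[A] B k)
  p : ∀ j, B j →ₐ[A] Binf
  comp : ∀ {j k l : J} (g : k ⟶ j) (h : l ⟶ k) (x : B j), t (h ≫ g) x = t h (t g x)
  cone : ∀ {j k : J} (g : k ⟶ j) (x : B j), p k (t g x) = p j x
  surj : ∀ b, ∃ j x, p j x = b
  zero : ∀ j x, p j x = 0 → ∃ (k : J) (g : k ⟶ j), t g x = 0

namespace AlgColim

variable {A : Type u} [CommRing A] {J : Type u} [SmallCategory J] {B : J → Type u}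
  [∀ j, CommRing (B j)] [∀ j, Algebra A (B j)] {Binf : Type u} [CommRing Binf] [Algebra A Binf]
  (C : AlgColim A J B Binf) (M : Type u) [AddCommGroup M] [Module A M]

/-- Transition maps on tensor products. -/
noncomputable def T {j k : J} (g : k ⟶ j) : B j ⊗[A] M →ₗ[A] B k ⊗[A] M := (C.t g).toLinearMap.rTensor M

/-- The maps to the colimit on tensor products. -/
noncomputable def P (j : J) : B j ⊗[A] M →ₗ[A] Binf ⊗[A] M := (C.p j).toLinearMap.rTensor M

variable {M}

theorem T_tmul {j k : J} (g : k ⟶ j) (b : B j) (m : M) : C.T M g (b ⊗ₜ[A] m) = C.t g b ⊗ₜ[A] m := rfl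

theorem P_tmul (j : J) (b : B j) (m : M) : C.P M j (b ⊗ₜ[A] m) = C.p j b ⊗ₜ[A] m := rfl

theorem T_comp {j k l : J} (g : k ⟶ j) (h : l ⟶ k) (y : B j ⊗[A] M) :
    C.T M (h ≫ g) y = C.T M h (C.T M g y) := by
  induction y with
  | zero => simp
  | tmul b m => rw [T_tmul, T_tmul, T_tmul, C.comp]
  | add x y hx hy => simp only [map_add, hx, hy]

theorem P_T {j k : J} (g : k ⟶ j) (y : B j ⊗[A] M) : C.P M k (C.T M g y) = C.P M j y := by
  induction y with
  | zero => simp
  | tmul b m => rw [T_tmul, P_tmul, P_tmul, C.cone]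
  | add x y hx hy => simp only [map_add, hx, hy]

variable {N : Type u} [AddCommGroup N] [Module A N] (h : M →ₗ[A] N)

theorem T_nat {j k : J} (g : k ⟶ j) (y : B j ⊗[A] M) :
    C.T N g (h.lTensor (B j) y) = h.lTensor (B k) (C.T M g y) := by
  induction y with
  | zero => simp
  | tmul b m => rw [T_tmul, LinearMap.lTensor_tmul, LinearMap.lTensor_tmul, T_tmul]
  | add x y hx hy => simp only [map_add, hx, hy]

theorem P_nat (j : J) (y : B j ⊗[A] M) :
    C.P N j (h.lTensor (B j) y) = h.lTensor Binf (C.P M j y) := by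
  induction y with
  | zero => simp
  | tmul b m => rw [P_tmul, LinearMap.lTensor_tmul, LinearMap.lTensor_tmul, P_tmul]
  | add x y hx hy => simp only [map_add, hx, hy]

variable [IsCofiltered J]

theorem exists_P_eq (y : Binf ⊗[A] M) : ∃ j y', C.P M j y' = y := by
  induction y with
  | zero => exact ⟨IsCofiltered.nonempty.some, 0, map_zero _⟩
  | tmul b m =>
    obtain ⟨j, x, rfl⟩ := C.surj b
    exact ⟨j, x ⊗ₜ m, rfl⟩
  | add y z hy hz =>
    obtain ⟨j, y', rfl⟩ := hy
    obtain ⟨k, z', rfl⟩ := hz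
    exact ⟨IsCofiltered.min j k, C.T M (IsCofiltered.minToLeft j k) y' + C.T M (IsCofiltered.minToRight j k) z',
      by rw [map_add, P_T, P_T]⟩

/-- A lift past a given stage. -/
theorem exists_P_eq_over (j₀ : J) (y : Binf ⊗[A] M) : ∃ (j : J) (_ : j ⟶ j₀) (y' : B j ⊗[A] M), C.P M j y' = y := by
  obtain ⟨j, y', rfl⟩ := C.exists_P_eq y
  exact ⟨_, IsCofiltered.minToRight j j₀, C.T M (IsCofiltered.minToLeft j j₀) y', C.P_T _ _⟩

theorem exists_forall_vanish {j : J} {ι : Type*} (s : Finset ι) (x : ι → B j) (hx : ∀ i ∈ s, C.p j (x i) = 0) :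
    ∃ (k : J) (g : k ⟶ j), ∀ i ∈ s, C.t g (x i) = 0 := by
  classical
  induction s using Finset.induction with
  | empty => exact ⟨j, 𝟙 j, by simp⟩
  | insert a s ha ih =>
    obtain ⟨k, g, hg⟩ := ih fun i hi => hx i (Finset.mem_insert_of_mem hi)
    obtain ⟨l, g', hl⟩ := C.zero k (C.t g (x a)) (by rw [C.cone]; exact hx a (Finset.mem_insert_self a s))
    refine ⟨l, g' ≫ g, fun i hi => ?_⟩
    rw [C.comp]
    rcases Finset.mem_insert.1 hi with rfl | hi
    · exact hl
    · rw [hg i hi, map_zero]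

/-- An element of the tensor product which dies in the limit dies at a stage. -/
theorem exists_T_eq_zero {j : J} (y : B j ⊗[A] M) (hy : C.P M j y = 0) :
    ∃ (k : J) (g : k ⟶ j), C.T M g y = 0 := by
  classical
  -- a free presentation
  let π : (M →₀ A) →ₗ[A] M := Finsupp.linearCombination A id
  have hπ : Function.Surjective π := fun m => ⟨Finsupp.single m 1, by simp [π]⟩
  let ι := (LinearMap.ker π).subtype
  have hex : Function.Exact ι π := LinearMap.exact_subtype_ker_map π
  obtain ⟨v, rfl⟩ := LinearMap.lTensor_surjective (B j) hπ y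
  rw [C.P_nat] at hy
  have this := lTensor_exact (R := A) (M := LinearMap.ker π) (N := M →₀ A) (P := M) Binf (f := ι) (g := π) hex hπ
  obtain ⟨z, hz⟩ := (this _).1 hy
  obtain ⟨k, g, z', rfl⟩ := C.exists_P_eq_over (M := LinearMap.ker π) j z
  let d := C.T (M →₀ A) g v - ι.lTensor (B k) z'
  have hd : C.P _ k d = 0 := by
    show C.P (M →₀ A) k (_ - _) = 0
    rw [map_sub, C.P_T, C.P_nat (M := LinearMap.ker π) (N := M →₀ A) ι, hz, sub_self]
  -- coordinates
  let e : ∀ (R : Type u) [CommRing R] [Algebra A R], R ⊗[A] (M →₀ A) ≃ₗ[A] (M →₀ R) := fun R _ _ =>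
    (TensorProduct.finsuppScalarRight A A R M)
  have hnat : ∀ (f : B k →ₐ[A] Binf) (w : B k ⊗[A] (M →₀ A)) (m : M),
      e Binf (f.toLinearMap.rTensor _ w) m = f (e (B k) w m) := by
    intro f w m
    induction w with
    | zero => simp
    | tmul b l => simp [e]
    | add x y hx hy => simp only [map_add, Finsupp.add_apply, hx, hy]
  obtain ⟨l, g', hl⟩ := C.exists_forall_vanish (e (B k) d).support (fun m => e (B k) d m) fun m _ => by
    rw [← hnat (C.p k) d m]
    show e Binf (C.P _ k d) m = 0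
    rw [hd, map_zero, Finsupp.zero_apply]
  have hnat' : ∀ (f : B k →ₐ[A] B l) (w : B k ⊗[A] (M →₀ A)) (m : M),
      e (B l) (f.toLinearMap.rTensor _ w) m = f (e (B k) w m) := by
    intro f w m
    induction w with
    | zero => simp
    | tmul b l => simp [e]
    | add x y hx hy => simp only [map_add, Finsupp.add_apply, hx, hy]
  have hd' : C.T _ g' d = 0 := by
    apply (e (B l)).injective
    ext m
    rw [show C.T _ g' d = (C.t g').toLinearMap.rTensor _ d from rfl, hnat', map_zero, Finsupp.zero_apply]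
    by_cases hm : m ∈ (e (B k) d).support
    · exact hl m hm
    · rw [Finsupp.notMem_support_iff.1 hm, map_zero]
  refine ⟨l, g' ≫ g, ?_⟩
  have hv : C.T _ g v = d + ι.lTensor (B k) z' := (sub_add_cancel _ _).symm
  have hz0 : π.lTensor (B k) (ι.lTensor (B k) z') = 0 := by
    rw [← LinearMap.comp_apply, ← LinearMap.lTensor_comp, hex.linearMap_comp_eq_zero, LinearMap.lTensor_zero,
      LinearMap.zero_apply]
  rw [C.T_comp, C.T_nat, hv, map_add, hz0, add_zero, C.T_nat, hd', map_zero]

theorem exists_forall_T_eq_zero {j : J} {ι : Type*} (s : Finset ι) (y : ι → B j ⊗[A] M)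
    (hy : ∀ i ∈ s, C.P M j (y i) = 0) : ∃ (k : J) (g : k ⟶ j), ∀ i ∈ s, C.T M g (y i) = 0 := by
  classical
  induction s using Finset.induction with
  | empty => exact ⟨j, 𝟙 j, by simp⟩
  | insert a s ha ih =>
    obtain ⟨k, g, hg⟩ := ih fun i hi => hy i (Finset.mem_insert_of_mem hi)
    obtain ⟨l, g', hl⟩ := C.exists_T_eq_zero (C.T M g (y a))
      (by rw [C.P_T]; exact hy a (Finset.mem_insert_self a s))
    refine ⟨l, g' ≫ g, fun i hi => ?_⟩
    rw [C.T_comp]
    rcases Finset.mem_insert.1 hi with rfl | hi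
    · exact hl
    · rw [hg i hi, map_zero]

end AlgColim

end Groth.Agent.LimModLib
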