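import Groth.Agent.LimModLib.Alg

/-!
# Linear maps into a filtered colimit of base changes
-/

set_option autoImplicit false
set_option backward.isDefEq.respectTransparency false
set_option backward.isDefEq.respectTransparency.types false

universe u

open CategoryTheory TensorProduct

namespace Groth.Agent.LimModLib.AlgColim

variable {A : Type u} [CommRing A] {J : Type u} [SmallCategory J] {B : J → Type u}
  [∀ j, CommRing (B j)] [∀ j, Algebra A (B j)] {Binf : Type u} [CommRing Binf] [Algebra A Binf]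
  (C : AlgColim A J B Binf) {M N : Type u} [AddCommGroup M] [Module A M] [AddCommGroup N] [Module A N]
  [IsCofiltered J]

theorem exists_hom [Module.FinitePresentation A M] (j₀ : J) (h : M →ₗ[A] Binf ⊗[A] N) :
    ∃ (j : J) (_ : j ⟶ j₀) (h' : M →ₗ[A] B j ⊗[A] N), ∀ m, C.P N j (h' m) = h m := by
  classical
  obtain ⟨n, K, e, ⟨s, hs⟩⟩ := Module.FinitePresentation.exists_fin A M
  let q : (Fin n → A) →ₗ[A] M := e.symm.toLinearMap ∘ₗ K.mkQ
  choose jr g y hy using fun r : Fin n => C.exists_P_eq_over j₀ (h (q (Pi.single r 1)))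
  obtain ⟨k, hk⟩ := IsCofiltered.inf_objs_exists (insert j₀ (Finset.univ.image jr))
  let t : ∀ r, k ⟶ jr r := fun r => (hk (Finset.mem_insert_of_mem (Finset.mem_image_of_mem jr (Finset.mem_univ r)))).some
  let f : (Fin n → A) →ₗ[A] B k ⊗[A] N := (Pi.basisFun A (Fin n)).constr A fun r => C.T N (t r) (y r)
  have hf : ∀ v, C.P N k (f v) = h (q v) := by
    intro v
    have : C.P N k ∘ₗ f = h ∘ₗ q := by
      refine (Pi.basisFun A (Fin n)).ext fun r => ?_
      rw [LinearMap.comp_apply, LinearMap.comp_apply]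
      simp only [f]
      rw [Module.Basis.constr_basis, C.P_T, hy, Pi.basisFun_apply]
    exact LinearMap.congr_fun this v
  obtain ⟨l, g', hl⟩ := C.exists_forall_T_eq_zero s f fun v hv => by
    have : K.mkQ v = 0 := (Submodule.Quotient.mk_eq_zero K).2 (hs ▸ Submodule.subset_span hv)
    rw [hf, show q v = e.symm (K.mkQ v) from rfl, this, map_zero, map_zero]
  have hle : K ≤ LinearMap.ker (C.T N g' ∘ₗ f) := by
    rw [← hs, Submodule.span_le]
    exact fun v hv => LinearMap.mem_ker.2 (hl v hv)
  refine ⟨l, g' ≫ (hk (Finset.mem_insert_self _ _)).some, K.liftQ (C.T N g' ∘ₗ f) hle ∘ₗ e.toLinearMap, fun m => ?_⟩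
  obtain ⟨v, hv⟩ := K.mkQ_surjective (e m)
  rw [LinearMap.comp_apply, LinearEquiv.coe_coe, ← hv, Submodule.mkQ_apply, Submodule.liftQ_apply,
    LinearMap.comp_apply, C.P_T, hf]
  exact congrArg h ((congrArg e.symm hv).trans (e.symm_apply_apply m))

end Groth.Agent.LimModLib.AlgColim
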