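import Mathlib
import Groth.Agent.QCoh.Pullback
import Groth.Agent.QCoh.Tilde
import Groth.Agent.QCoh.Sections

/-!
# Pullbacks of morphisms of quasi-coherent modules on affine charts
-/

set_option autoImplicit false
set_option backward.isDefEq.respectTransparency false
set_option backward.isDefEq.respectTransparency.types false

universe u

open CategoryTheory CategoryTheory.Limits AlgebraicGeometry Opposite

namespace Groth.Agent.LimModLib

variable {X X' : Scheme.{u}}

/-- The module of a quasi-coherent sheaf on an affine chart. -/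
noncomputable def chartΓ {U : X.Opens} (hU : IsAffineOpen U) : X.Modules ⥤ ModuleCat.{u} Γ(X, U) :=
  Scheme.Modules.restrictFunctor hU.fromSpec ⋙ moduleSpecΓFunctor

/-- `pullbackChartIso` as an isomorphism of functors. -/
noncomputable def chartNat {R S : CommRingCat.{u}} (g : R ⟶ S) (φ : X' ⟶ X) {j : Spec S ⟶ X'} [IsOpenImmersion j]
    {i : Spec R ⟶ X} [IsOpenImmersion i] (h : Spec.map g ≫ i = j ≫ φ) :
    Scheme.Modules.pullback φ ⋙ Scheme.Modules.restrictFunctor j ≅
      Scheme.Modules.restrictFunctor i ⋙ Scheme.Modules.pullback (Spec.map g) :=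
  Functor.isoWhiskerLeft _ (Scheme.Modules.restrictFunctorIsoPullback j) ≪≫
    Scheme.Modules.pullbackComp j φ ≪≫ Scheme.Modules.pullbackCongr h.symm ≪≫
      (Scheme.Modules.pullbackComp (Spec.map g) i).symm ≪≫
        Functor.isoWhiskerRight (Scheme.Modules.restrictFunctorIsoPullback i).symm _

/-- A pulled back morphism, restricted to a chart, is the extension of scalars. -/
theorem nonempty_arrowIso (φ : X' ⟶ X) {U : X.Opens} (hU : IsAffineOpen U) {W : X'.Opens} (hW : IsAffineOpen W)
    (hle : W ≤ φ ⁻¹ᵁ U) {M N : X.Modules} (hM : Coh.IsQCoh M) (hN : Coh.IsQCoh N) (d : M ⟶ N) :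
    Nonempty (Arrow.mk ((Scheme.Modules.restrictFunctor hW.fromSpec).map ((Scheme.Modules.pullback φ).map d)) ≅
      Arrow.mk (tilde.map ((ModuleCat.extendScalars.{_, _, u} (φ.appLE U W hle).hom).map ((chartΓ hU).map d)))) := by
  let g := φ.appLE U W hle
  let i := hU.fromSpec
  haveI hM' : IsIso (M.restrict i).fromTildeΓ :=
    (isQuasicoherent_iff_isIso_fromTildeΓ _).1 (QCoh.isQCoh_restrict i hM)
  haveI hN' : IsIso (N.restrict i).fromTildeΓ :=
    (isQuasicoherent_iff_isIso_fromTildeΓ _).1 (QCoh.isQCoh_restrict i hN)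
  let K := chartNat g φ (j := hW.fromSpec) (i := i) (QCoh.exists_chart_map φ hU hW hle)
  let e : Arrow.mk ((Scheme.Modules.restrictFunctor i).map d) ≅
      Arrow.mk (tilde.map ((chartΓ hU).map d)) :=
    (Arrow.isoMk (@asIso _ _ _ _ (M.restrict i).fromTildeΓ hM') (@asIso _ _ _ _ (N.restrict i).fromTildeΓ hN')
      (Scheme.Modules.fromTildeΓNatTrans.naturality ((Scheme.Modules.restrictFunctor i).map d)).symm).symm
  let G := ModuleCat.extendScalars.{_, _, u} g.hom
  let e₁ : Arrow.mk ((Scheme.Modules.pullback φ ⋙ Scheme.Modules.restrictFunctor hW.fromSpec).map d) ≅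
      Arrow.mk ((Scheme.Modules.restrictFunctor i ⋙ Scheme.Modules.pullback (Spec.map g)).map d) :=
    Arrow.isoMk (K.app M) (K.app N) (K.hom.naturality d).symm
  let e₂ : Arrow.mk ((Scheme.Modules.pullback (Spec.map g)).map ((Scheme.Modules.restrictFunctor i).map d)) ≅
      Arrow.mk ((Scheme.Modules.pullback (Spec.map g)).map (tilde.map ((chartΓ hU).map d))) :=
    (Scheme.Modules.pullback (Spec.map g)).mapArrow.mapIso e
  let e₃ : Arrow.mk ((tilde.functor Γ(X, U) ⋙ Scheme.Modules.pullback (Spec.map g)).map ((chartΓ hU).map d)) ≅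
      Arrow.mk ((G ⋙ tilde.functor Γ(X', W)).map ((chartΓ hU).map d)) :=
    Arrow.isoMk ((QCoh.tildePullbackIso g).app _) ((QCoh.tildePullbackIso g).app _)
      ((QCoh.tildePullbackIso g).hom.naturality _).symm
  exact ⟨e₁ ≪≫ e₂ ≪≫ e₃⟩

section Detect

variable {ι : Type*} {Y : ι → Scheme.{u}} (j : ∀ i, Y i ⟶ X) [∀ i, IsOpenImmersion (j i)]
  (hcov : ∀ x : X, ∃ i, x ∈ Set.range (j i).base) {M N : X.Modules} (f : M ⟶ N)

include hcov in
theorem eq_zero_of_restrict {S T : X.Modules} (f : S ⟶ T)
    (h : ∀ i, (Scheme.Modules.restrictFunctor (j i)).map f = 0) : f = 0 := by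
  refine Scheme.Modules.hom_ext _ _ fun W => ?_
  ext s
  refine (?_ : f.app W s = 0).trans rfl
  refine QCoh.eq_zero_of_locally W _ fun q hq => ?_
  obtain ⟨i, q', rfl⟩ := hcov q
  refine ⟨j i ''ᵁ (j i ⁻¹ᵁ W), homOfLE ((j i).image_preimage_le W), ⟨q', hq, rfl⟩, ?_⟩
  rw [← QCoh.map_app_comm]
  exact congr(($(h i)).app (j i ⁻¹ᵁ W) _)

include hcov in
theorem epi_iff_restrict : Epi f ↔ ∀ i, Epi ((Scheme.Modules.restrictFunctor (j i)).map f) := by
  refine ⟨fun _ i => inferInstance, fun h => ?_⟩
  refine Abelian.epi_of_cokernel_π_eq_zero f (eq_zero_of_restrict j hcov _ fun i => ?_)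
  haveI := h i
  rw [← cancel_epi ((Scheme.Modules.restrictFunctor (j i)).map f), ← Functor.map_comp, cokernel.condition,
    Functor.map_zero, comp_zero]

include hcov in
theorem mono_iff_restrict : Mono f ↔ ∀ i, Mono ((Scheme.Modules.restrictFunctor (j i)).map f) := by
  refine ⟨fun _ i => inferInstance, fun h => ?_⟩
  refine Abelian.mono_of_kernel_ι_eq_zero f (eq_zero_of_restrict j hcov _ fun i => ?_)
  haveI := h i
  rw [← cancel_mono ((Scheme.Modules.restrictFunctor (j i)).map f), ← Functor.map_comp, kernel.condition,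
    Functor.map_zero, zero_comp]

include hcov in
theorem isIso_iff_restrict : IsIso f ↔ ∀ i, IsIso ((Scheme.Modules.restrictFunctor (j i)).map f) := by
  refine ⟨fun _ i => inferInstance, fun h => ?_⟩
  haveI : Mono f := (mono_iff_restrict j hcov f).2 fun i => haveI := h i; inferInstance
  haveI : Epi f := (epi_iff_restrict j hcov f).2 fun i => haveI := h i; inferInstance
  exact isIso_of_mono_of_epi f

end Detect

variable {A B : Type u} [CommRing A] [CommRing B] (f : A →+* B) {M N : ModuleCat.{u} A} (d : M ⟶ N)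

theorem tilde_extend_eq_zero_iff {B : CommRingCat.{u}} (f : A →+* B) :
    letI := f.toAlgebra
    tilde.map ((ModuleCat.extendScalars.{_, _, u} f).map d) = 0 ↔ d.hom.baseChange B = 0 := by
  letI := f.toAlgebra
  rw [show tilde.map ((ModuleCat.extendScalars.{_, _, u} f).map d) =
    (tilde.functor B).map ((ModuleCat.extendScalars.{_, _, u} f).map d) from rfl, Functor.map_eq_zero_iff,
    ModuleCat.hom_ext_iff]
  exact Iff.rfl

theorem tilde_extend_epi_iff {B : CommRingCat.{u}} (f : A →+* B) :
    letI := f.toAlgebra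
    Epi (tilde.map ((ModuleCat.extendScalars.{_, _, u} f).map d)) ↔ Function.Surjective (d.hom.lTensor B) := by
  letI := f.toAlgebra
  refine Iff.trans ⟨fun h => (tilde.functor B).epi_of_epi_map h,
    fun h => inferInstanceAs (Epi ((tilde.functor B).map _))⟩ (ModuleCat.epi_iff_surjective _)

theorem tilde_extend_isIso_iff {B : CommRingCat.{u}} (f : A →+* B) :
    letI := f.toAlgebra
    IsIso (tilde.map ((ModuleCat.extendScalars.{_, _, u} f).map d)) ↔ Function.Bijective (d.hom.lTensor B) := by
  letI := f.toAlgebra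
  refine Iff.trans ⟨fun h => @isIso_of_fully_faithful _ _ _ _ (tilde.functor B) _ _ _ _ _ h,
    fun h => inferInstanceAs (IsIso ((tilde.functor B).map _))⟩ (ConcreteCategory.isIso_iff_bijective ((ModuleCat.extendScalars.{_, _, u} f).map d))

theorem tilde_extend_mono_iff {B : CommRingCat.{u}} (f : A →+* B) :
    letI := f.toAlgebra
    Mono (tilde.map ((ModuleCat.extendScalars.{_, _, u} f).map d)) ↔ Function.Injective (d.hom.lTensor B) := by
  letI := f.toAlgebra
  refine Iff.trans ⟨fun h => (tilde.functor B).mono_of_mono_map h,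
    fun h => inferInstanceAs (Mono ((tilde.functor B).map _))⟩ (ModuleCat.mono_iff_injective _)

end Groth.Agent.LimModLib
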