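import Groth.Agent.LimModLib.FlatDescent

/-!
# Limits with flat transition maps
-/

set_option autoImplicit false
set_option backward.isDefEq.respectTransparency false
set_option backward.isDefEq.respectTransparency.types false

universe u

open CategoryTheory CategoryTheory.Limits AlgebraicGeometry Opposite TopologicalSpace
open scoped TensorProduct

namespace Groth.Agent.LimModLib

theorem AlgColim.flat {A : Type u} [CommRing A] {J : Type u} [SmallCategory J] [IsCofiltered J] {B : J → Type u}
    [∀ j, CommRing (B j)] [∀ j, Algebra A (B j)] {Binf : Type u} [CommRing Binf] [Algebra A Binf]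
    (C : AlgColim A J B Binf) [∀ j, Module.Flat A (B j)] : Module.Flat A Binf := by
  refine Module.Flat.iff_lTensor_preserves_injective_linearMap.2 fun N N' _ _ _ _ f hf => ?_
  refine (injective_iff_map_eq_zero _).2 fun z hz => ?_
  obtain ⟨j, z', rfl⟩ := C.exists_P_eq z
  obtain ⟨k, g, hk⟩ := C.exists_T_eq_zero (f.lTensor (B j) z') (by rw [C.P_nat, hz])
  rw [C.T_nat] at hk
  rw [← C.P_T g, Module.Flat.lTensor_preserves_injective_linearMap f hf (hk.trans (map_zero _).symm), map_zero]

variable {I : Type u} [SmallCategory I] [IsCofiltered I] {D : I ⥤ Scheme.{u}} {c : Cone D}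
  (hc : IsLimit c) [∀ {i j : I} (f : i ⟶ j), IsAffineHom (D.map f)] (i : I)

include hc in
/-- The projection to a stage is flat if the transition maps to that stage are flat. -/
theorem flat_π (hfl : ∀ (j : I) (φ : j ⟶ i), Flat (D.map φ)) : Flat (c.π.app i) := by
  haveI : IsAffineHom (c.π.app i) := isAffineHom_π_app D c hc i
  rw [IsZariskiLocalAtTarget.iff_of_iSup_eq_top (P := @Flat) _ (iSup_affineOpens_eq_top _)]
  intro U
  haveI : IsAffine (c.π.app i ⁻¹ᵁ U.1) := U.2.preimage _
  haveI : IsAffine U.1 := U.2
  rw [HasRingHomProperty.iff_of_isAffine (P := @Flat), Scheme.Hom.appTop, Scheme.Hom.app_eq_appLE,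
    morphismRestrict_appLE]
  refine ((c.π.app i).appLE_congr _ (Scheme.Opens.ι_image_top _) (Scheme.Opens.ι_image_top _)
    fun f => f.hom.Flat).2 ?_
  obtain ⟨C⟩ := nonempty_algColim hc U.2
  haveI : ∀ j : Over i, Module.Flat Γ(D.obj i, U.1) Γ(D.obj j.left, stage U.1 j) := fun j => by
    haveI := hfl _ j.hom
    exact (D.map j.hom).flat_appLE U.2 (U.2.preimage _) le_rfl
  exact C.flat

variable {X : Scheme.{u}}

/-- A morphism is a monomorphism after an exact pullback iff its kernel dies. -/
theorem mono_pullback_iff {X' : Scheme.{u}} (φ : X' ⟶ X) [Flat φ] {M N : X.Modules} (hM : Coh.IsQCoh M)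
    (hN : Coh.IsQCoh N) (d : M ⟶ N) :
    Mono ((Scheme.Modules.pullback φ).map d) ↔ (Scheme.Modules.pullback φ).map (kernel.ι d) = 0 := by
  let P := Scheme.Modules.pullback φ
  constructor
  · intro _
    rw [← cancel_mono (P.map d), ← P.map_comp, kernel.condition, P.map_zero, zero_comp]
  · intro h
    -- factor through the coimage
    let p := cokernel.π (kernel.ι d)
    let m := Abelian.factorThruCoimage d
    have hfac : p ≫ m = d := Abelian.coimage.fac d
    haveI : Mono (P.map m) := mono_pullback_of_flat φ
      (QCoh.isQCoh_cokernel (QCoh.isQCoh_kernel hM hN d) hM _) hN m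
    haveI : IsIso (P.map p) := by
      have hc := isColimitCoforkMapOfIsColimit' P (cokernel.condition (kernel.ι d))
        (cokernelIsCokernel (kernel.ι d))
      haveI : Epi (P.map p) := epi_of_isColimit_cofork hc
      obtain ⟨l, hl⟩ := CokernelCofork.IsColimit.desc' hc (𝟙 _) (by rw [h, zero_comp])
      haveI : IsSplitMono (P.map p) := IsSplitMono.mk' ⟨l, hl⟩
      exact isIso_of_epi_of_isSplitMono _
    rw [← hfac, P.map_comp]
    infer_instance

/-- Exactness after an exact pullback. -/
theorem exact_pullback_iff {X' : Scheme.{u}} (φ : X' ⟶ X) [Flat φ] {M N K : X.Modules} (hM : Coh.IsQCoh M)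
    (hN : Coh.IsQCoh N) (hK : Coh.IsQCoh K) (f : M ⟶ N) (g : N ⟶ K) :
    (∃ w : (Scheme.Modules.pullback φ).map f ≫ (Scheme.Modules.pullback φ).map g = 0,
      (ShortComplex.mk _ _ w).Exact) ↔
      (Scheme.Modules.pullback φ).map (Limits.image.ι f ≫ g) = 0 ∧
        (Scheme.Modules.pullback φ).map (kernel.ι g ≫ cokernel.π f) = 0 := by
  let P := Scheme.Modules.pullback φ
  have h1 : P.map f ≫ P.map g = 0 ↔ P.map (Limits.image.ι f ≫ g) = 0 := by
    conv_lhs => rw [← Limits.image.fac f, P.map_comp, Category.assoc, ← P.map_comp (Limits.image.ι f)]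
    exact ⟨fun h => (cancel_epi (P.map (factorThruImage f))).1 (h.trans comp_zero.symm), fun h => by rw [h, comp_zero]⟩
  rw [← h1]
  constructor
  · rintro ⟨w, hex⟩
    refine ⟨w, ?_⟩
    obtain ⟨A, π, _, x, hx⟩ := hex.exact_up_to_refinements (P.map (kernel.ι g))
      (by dsimp; rw [← P.map_comp, kernel.condition, P.map_zero])
    rw [← cancel_epi π, P.map_comp, ← Category.assoc, hx, Category.assoc, comp_zero]
    show x ≫ P.map f ≫ P.map (cokernel.π f) = 0
    rw [← P.map_comp, cokernel.condition, P.map_zero, comp_zero]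
  · rintro ⟨w, h⟩
    refine ⟨w, ?_⟩
    rw [ShortComplex.exact_iff_kernel_ι_comp_cokernel_π_zero]
    dsimp
    -- `kernel (P g)` is the pullback of `kernel g`
    have hS : (ShortComplex.mk (kernel.ι g) g (kernel.condition g)).Exact := ShortComplex.exact_kernel g
    let q := cokernel.π (kernel.ι g)
    let m := Abelian.factorThruCoimage g
    have hfac : q ≫ m = g := Abelian.coimage.fac g
    haveI : Mono (P.map m) := mono_pullback_of_flat φ
      (QCoh.isQCoh_cokernel (QCoh.isQCoh_kernel hN hK g) hN _) hK m
    have hc := isColimitCoforkMapOfIsColimit' P (cokernel.condition (kernel.ι g)) (cokernelIsCokernel (kernel.ι g))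
    have hq : (ShortComplex.mk (P.map (kernel.ι g)) (P.map q)
        (by rw [← P.map_comp, cokernel.condition, P.map_zero])).Exact :=
      ShortComplex.exact_of_g_is_cokernel _ hc
    have hk : kernel.ι (P.map g) ≫ P.map q = 0 := by
      rw [← cancel_mono (P.map m), Category.assoc, ← P.map_comp, hfac, kernel.condition, zero_comp]
    obtain ⟨A, π, _, x, hx⟩ := hq.exact_up_to_refinements (kernel.ι (P.map g)) hk
    have hc' := isColimitCoforkMapOfIsColimit' P (cokernel.condition f) (cokernelIsCokernel f)
    obtain ⟨l, hl⟩ := CokernelCofork.IsColimit.desc' hc' (cokernel.π (P.map f)) (cokernel.condition _)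
    dsimp at hx
    rw [← cancel_epi π, comp_zero, ← Category.assoc, hx, ← hl, Category.assoc, Cofork.π_ofπ,
      ← Category.assoc (P.map (kernel.ι g)), ← P.map_comp, h, zero_comp, comp_zero]

end Groth.Agent.LimModLib
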