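import Groth.Agent.LimModLib.FlatDescent
import Groth.Agent.LimModLib.Functor
import Mathlib.AlgebraicGeometry.Sites.Fpqc
import Mathlib.CategoryTheory.Sites.Over

/-!
# Subfunctors of the final functor as fpqc sheaves
-/

set_option autoImplicit false
set_option backward.isDefEq.respectTransparency false
set_option backward.isDefEq.respectTransparency.types false

universe u

open CategoryTheory CategoryTheory.Limits AlgebraicGeometry Opposite TopologicalSpace

namespace Groth.Agent.LimModLib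

theorem flat_and_surj_of_mem {V : Scheme.{u}} {R : Presieve V} (hR : R ∈ Scheme.fpqcPrecoverage V) :
    (∀ x : V, ∃ (W : Scheme.{u}) (g : W ⟶ V), R g ∧ x ∈ Set.range g.base) ∧
      ∀ ⦃W : Scheme.{u}⦄ (g : W ⟶ V), R g → Flat g := by
  obtain ⟨ι, W, g, rfl⟩ := Presieve.exists_eq_ofArrows R
  obtain ⟨h1, h2⟩ := (Scheme.ofArrows_mem_precoverage_iff _).1 hR.2
  refine ⟨fun x => ?_, ?_⟩
  · obtain ⟨k, hk⟩ := h1 x
    exact ⟨_, g k, ⟨k⟩, hk⟩
  · rintro _ _ ⟨k⟩
    exact h2 k

variable {S : Scheme.{u}} (P : Over S → Prop)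

/-- The descent property of a condition along jointly surjective families of flat morphisms. -/
def FlatDescends : Prop :=
  ∀ {T : Over S} {ι : Type u} (Ti : ι → Over S) (g : ∀ k, Ti k ⟶ T), (∀ k, Flat (g k).left) →
    (∀ x : T.left, ∃ k, x ∈ Set.range (g k).left.base) → (∀ k, P (Ti k)) → P T

/-- A stable condition which descends along flat families gives an fpqc sheaf. -/
theorem isSheaf_genPSp (hP : ∀ ⦃T T₀ : Over S⦄ (_ : T ⟶ T₀), P T₀ → P T) (hdesc : FlatDescends P) :
    Presheaf.IsSheaf (QuotSh.J Scheme.fpqcPrecoverage S) (FlatFun.genPSp S P) := by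
  have key : ∀ (V : Scheme.{u}) (R : Sieve V), R ∈ Scheme.fpqcPrecoverage.toGrothendieck V →
      ∀ (V' : Scheme.{u}) (h : V' ⟶ V) (v : V' ⟶ S),
        (∀ (W : Scheme.{u}) (g : W ⟶ V'), R (g ≫ h) → P (Over.mk (g ≫ v))) → P (Over.mk v) := by
    intro V R hR
    induction (Precoverage.mem_toGrothendieck_iff.1 hR) with
    | of V R₀ hR₀ =>
      intro V' h v hall
      obtain ⟨hsurj, hflat⟩ := flat_and_surj_of_mem hR₀
      choose W g hg hgx using fun x : V' => hsurj (h x)
      refine hdesc (T := Over.mk v) (fun x : V' => Over.mk (pullback.fst h (g x) ≫ v))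
        (fun x => Over.homMk (pullback.fst h (g x)) rfl) (fun x => ?_) (fun x => ?_) fun x => ?_
      · haveI := hflat _ (hg x)
        exact MorphismProperty.pullback_fst h (g x) inferInstance
      · obtain ⟨w, hw⟩ := hgx x
        obtain ⟨z, hz, -⟩ := Scheme.Pullback.exists_preimage_pullback (f := h) (g := g x) x w hw.symm
        exact ⟨x, z, hz⟩
      · refine hall _ _ ⟨W x, pullback.snd h (g x), g x, hg x, pullback.condition.symm⟩
    | top V =>
      intro V' h v hall
      have := hall V' (𝟙 V') trivial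
      rwa [Category.id_comp] at this
    | pullback V R _ Y f ih =>
      intro V' h v hall
      refine ih ‹_› V' (h ≫ f) v fun W g hg => hall W g ?_
      show R ((g ≫ h) ≫ f)
      rwa [Category.assoc]
    | transitive V R R' hR₁ hR₂ ih₁ ih₂ =>
      intro V' h v hall
      refine ih₁ hR₁ V' h v fun W g hg => ih₂ hg (hR₂ hg) W (𝟙 W) (g ≫ v) fun W' g' hg' => ?_
      rw [← Category.assoc]
      refine hall W' (g' ≫ g) ?_
      rw [Category.assoc]
      simpa using hg'
  rw [isSheaf_iff_isSheaf_of_type]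
  intro T R hR x hx
  have hmem : P T := key T.left _ ((GrothendieckTopology.mem_over_iff _ R).1 hR) T.left (𝟙 _) T.hom fun W g hg => by
    rw [Category.comp_id, Sieve.overEquiv_iff] at hg
    exact (FlatFun.genPSp_nonempty_iff_of_stable P hP _).1 ⟨x _ hg⟩
  refine ⟨(FlatFun.genPSp_nonempty_of P hmem).some, fun Y g _ => ?_, fun y _ => ?_⟩
  · exact @Subsingleton.elim _ (FlatFun.genPSp_subsingleton S P _) _ _
  · exact @Subsingleton.elim _ (FlatFun.genPSp_subsingleton S P _) _ _

theorem flatDescends_bcCond (Z : ChartProp.{u}) {X : Scheme.{u}} (f : X ⟶ S) {F G : X.Modules} (u : F ⟶ G)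
    (hF : Coh.IsQCoh F) (hG : Coh.IsQCoh G)
    (hd : ∀ {Y : Scheme.{u}} {ι : Type u} {Yk : ι → Scheme.{u}} (a : ∀ k, Yk k ⟶ Y) [∀ k, Flat (a k)],
      (∀ y : Y, ∃ k, y ∈ Set.range (a k).base) → ∀ {M N : Y.Modules}, Coh.IsQCoh M → Coh.IsQCoh N → ∀ d : M ⟶ N,
      (∀ k, Z.P ((Scheme.Modules.pullback (a k)).map d)) → Z.P d) :
    FlatDescends (bcCond Z f u) := by
  intro T ι Ti g hfl hsurj hP
  let a : ∀ k, pullback f (Ti k).hom ⟶ pullback f T.hom := fun k =>
    pullback.map f (Ti k).hom f T.hom (𝟙 X) (g k).left (𝟙 S) (by simp) (by rw [Category.comp_id]; exact (Over.w (g k)).symm)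
  have hpb : ∀ k, IsPullback (a k) (pullback.snd f (Ti k).hom) (pullback.snd f T.hom) (g k).left := fun k => by
    refine IsPullback.of_right ?_ (pullback.lift_snd _ _ _) (IsPullback.of_hasPullback f T.hom)
    rw [pullback.lift_fst, Category.comp_id, Over.w]
    exact IsPullback.of_hasPullback f (Ti k).hom
  haveI : ∀ k, Flat (a k) := fun k => MorphismProperty.of_isPullback (hpb k).flip (hfl k)
  refine hd a (fun y => ?_) (QCoh.isQCoh_pullback _ hF) (QCoh.isQCoh_pullback _ hG) _ fun k => ?_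
  · obtain ⟨k, z, hz⟩ := hsurj (pullback.snd f T.hom y)
    obtain ⟨w, hw, -⟩ := Scheme.exists_preimage_of_isPullback (hpb k) y z hz.symm
    exact ⟨k, w, hw⟩
  · refine (Z.iso _ _ (Arrow.isoMk ((Scheme.Modules.pullbackComp (a k) (pullback.fst f T.hom)).app F)
      ((Scheme.Modules.pullbackComp (a k) (pullback.fst f T.hom)).app G)
      ((Scheme.Modules.pullbackComp (a k) (pullback.fst f T.hom)).hom.naturality u).symm)).2 ?_
    have hk : a k ≫ pullback.fst f T.hom = pullback.fst f (Ti k).hom :=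
      (pullback.lift_fst _ _ _).trans (Category.comp_id _)
    rw [hk]
    exact hP k

end Groth.Agent.LimModLib
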