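import Groth.Agent.LimModLib.Chart
import Groth.Agent.LimModLib.AlgDescend
import Groth.Agent.QCoh.FT
import Groth.Prelude.Def_CohB1

/-!
# Descending properties of morphisms of quasi-coherent modules along limits
-/

set_option autoImplicit false
set_option backward.isDefEq.respectTransparency false
set_option backward.isDefEq.respectTransparency.types false

universe u

open CategoryTheory CategoryTheory.Limits AlgebraicGeometry Opposite TopologicalSpace

namespace Groth.Agent.LimModLib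

variable {I : Type u} [SmallCategory I] [IsCofiltered I] {D : I ⥤ Scheme.{u}} {c : Cone D}
  (hc : IsLimit c) [∀ {i j : I} (f : i ⟶ j), IsAffineHom (D.map f)] {i : I}

/-- The preimage of an open at a stage. -/
abbrev stage (U : (D.obj i).Opens) (j : Over i) : (D.obj j.left).Opens := D.map j.hom ⁻¹ᵁ U

/-- The preimage of an open in the limit. -/
abbrev limOpen (c : Cone D) (U : (D.obj i).Opens) : c.pt.Opens := c.π.app i ⁻¹ᵁ U

noncomputable instance stageAlg (U : (D.obj i).Opens) (j : Over i) :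
    Algebra Γ(D.obj i, U) Γ(D.obj j.left, stage U j) :=
  ((D.map j.hom).appLE U (stage U j) le_rfl).hom.toAlgebra

noncomputable instance limAlg (U : (D.obj i).Opens) : Algebra Γ(D.obj i, U) Γ(c.pt, limOpen c U) :=
  ((c.π.app i).appLE U (limOpen c U) le_rfl).hom.toAlgebra

omit [IsCofiltered I] [∀ {i j : I} (f : i ⟶ j), IsAffineHom (D.map f)] in
theorem stage_le {U : (D.obj i).Opens} {j k : Over i} (g : k ⟶ j) :
    stage U k ≤ D.map g.left ⁻¹ᵁ stage U j := by
  rw [← Scheme.Hom.comp_preimage, ← D.map_comp, Over.w g]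

omit [IsCofiltered I] [∀ {i j : I} (f : i ⟶ j), IsAffineHom (D.map f)] in
theorem lim_le {U : (D.obj i).Opens} (j : Over i) : limOpen c U ≤ c.π.app j.left ⁻¹ᵁ stage U j := by
  rw [← Scheme.Hom.comp_preimage, c.w]

omit [IsCofiltered I] [∀ {i j : I} (f : i ⟶ j), IsAffineHom (D.map f)] in
theorem appLE_congr' {X Y : Scheme.{u}} {f f' : X ⟶ Y} (e : f = f') {U : Y.Opens} {V : X.Opens}
    (h : V ≤ f ⁻¹ᵁ U) : f.appLE U V h = f'.appLE U V (e ▸ h) := by
  subst e; rfl

include hc in
/-- Sections over the preimages of an affine open. -/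
theorem exists_algColim {U : (D.obj i).Opens} (hU : IsAffineOpen U) :
    ∃ C : AlgColim Γ(D.obj i, U) (Over i) (fun j => Γ(D.obj j.left, stage U j)) Γ(c.pt, limOpen c U),
      (∀ {j k : Over i} (g : k ⟶ j) (x : Γ(D.obj j.left, stage U j)),
        C.t g x = (D.map g.left).appLE (stage U j) (stage U k) (stage_le g) x) ∧
      ∀ (j : Over i) (x : Γ(D.obj j.left, stage U j)),
        C.p j x = (c.π.app j.left).appLE (stage U j) (limOpen c U) (lim_le j) x := by
  refine ⟨{
    t := fun {j k} g => ⟨((D.map g.left).appLE (stage U j) (stage U k) (stage_le g)).hom, fun r => ?_⟩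
    p := fun j => ⟨((c.π.app j.left).appLE (stage U j) (limOpen c U) (lim_le j)).hom, fun r => ?_⟩
    comp := fun {j k l} g h x => ?_
    cone := fun {j k} g x => ?_
    surj := fun b => ?_
    zero := fun j x hx => ?_ }, fun {j k} g x => rfl, fun j x => rfl⟩
  · show ((D.map j.hom).appLE U _ le_rfl ≫ (D.map g.left).appLE _ _ _) r = (D.map k.hom).appLE U _ le_rfl r
    rw [Scheme.Hom.appLE_comp_appLE]
    rw [appLE_congr' (show D.map g.left ≫ D.map j.hom = D.map k.hom by rw [← D.map_comp, Over.w g])]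
  · show ((D.map j.hom).appLE U _ le_rfl ≫ (c.π.app j.left).appLE _ _ _) r = (c.π.app i).appLE U _ le_rfl r
    rw [Scheme.Hom.appLE_comp_appLE]
    rw [appLE_congr' (c.w j.hom)]
    rfl
  · show (D.map (h ≫ g).left).appLE _ _ _ x =
      ((D.map g.left).appLE _ _ _ ≫ (D.map h.left).appLE _ _ _) x
    rw [Scheme.Hom.appLE_comp_appLE]
    rw [appLE_congr' (show D.map (h ≫ g).left = D.map h.left ≫ D.map g.left by rw [Over.comp_left, D.map_comp])]
  · show ((D.map g.left).appLE _ _ _ ≫ (c.π.app k.left).appLE _ _ _) x = (c.π.app j.left).appLE _ _ _ x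
    rw [Scheme.Hom.appLE_comp_appLE]
    rw [appLE_congr' (c.w g.left)]
    rfl
  · haveI : ∀ j : Over i, IsAffine ((opensDiagram D i U).obj j) := fun j => hU.preimage (D.map _)
    obtain ⟨j, t, ht⟩ := exists_appTop_π_eq_of_isAffine_of_isLimit _ _ (isLimitOpensCone D c hc i U)
      ((limOpen c U).topIso.inv b)
    refine ⟨j, (stage U j).topIso.hom t, ?_⟩
    show (c.π.app j.left).appLE _ _ (lim_le j) ((stage U j).topIso.hom t) = b
    have h2 : ((c.π.app j.left).resLE (stage U j) (limOpen c U) (lim_le j)).app ⊤ t = (limOpen c U).topIso.inv b := ht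
    rw [Scheme.Hom.resLE_app_top] at h2
    have h3 := congrArg (limOpen c U).topIso.hom h2
    exact ((Iso.inv_hom_id_apply (limOpen c U).topIso _).symm.trans h3).trans (Iso.inv_hom_id_apply _ b)
  · let D' := Over.forget i ⋙ D
    haveI : ∀ {a b : Over i} (f : a ⟶ b), IsAffineHom (D'.map f) := fun f => by
      show IsAffineHom (D.map f.left); infer_instance
    have hc' := (Functor.Initial.isLimitWhiskerEquiv (Over.forget i) c).symm hc
    have hle : limOpen c U ≤ c.π.app j.left ⁻¹ᵁ stage U j := lim_le j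
    have heq : c.π.app j.left ⁻¹ᵁ stage U j ≤ limOpen c U := by rw [← Scheme.Hom.comp_preimage, c.w]
    have h0 : (c.π.app j.left).app (stage U j) x = 0 := by
      have key : ∀ (V : c.pt.Opens) (e : V ≤ c.π.app j.left ⁻¹ᵁ stage U j), V = c.π.app j.left ⁻¹ᵁ stage U j →
          (c.π.app j.left).appLE _ V e x = 0 → (c.π.app j.left).app (stage U j) x = 0 := by
        rintro _ e rfl h
        rw [Scheme.Hom.app_eq_appLE]
        exact h
      exact key _ hle (le_antisymm hle heq) hx
    obtain ⟨k, g, hg⟩ := exists_app_map_eq_zero_of_isLimit D' (c.whisker (Over.forget i)) hc' (i := j)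
      (hU.preimage (D.map j.hom)).isCompact x h0
    refine ⟨k, g, ?_⟩
    show ((D.map g.left).app (stage U j) ≫ (D.obj k.left).presheaf.map _) x = 0
    rw [CommRingCat.comp_apply, show (D.map g.left).app (stage U j) x = 0 from hg, map_zero]

include hc in
/-- Sections over the preimages of an affine open form a colimit. -/
theorem nonempty_algColim {U : (D.obj i).Opens} (hU : IsAffineOpen U) :
    Nonempty (AlgColim Γ(D.obj i, U) (Over i) (fun j => Γ(D.obj j.left, stage U j)) Γ(c.pt, limOpen c U)) :=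
  ⟨(exists_algColim hc hU).choose⟩

/-- A property of morphisms of modules which can be tested on charts. -/
structure ChartProp where
  /-- The property on morphisms of modules on schemes. -/
  P : ∀ {X : Scheme.{u}} {M N : X.Modules}, (M ⟶ N) → Prop
  /-- The property on linear maps. -/
  Q : ∀ (A B : Type u) [CommRing A] [CommRing B] [Algebra A B] {M N : Type u} [AddCommGroup M] [Module A M]
    [AddCommGroup N] [Module A N], (M →ₗ[A] N) → Prop
  iso : ∀ {X : Scheme.{u}} {M N M' N' : X.Modules} (f : M ⟶ N) (f' : M' ⟶ N'),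
    (Arrow.mk f ≅ Arrow.mk f') → (P f ↔ P f')
  restrict : ∀ {X : Scheme.{u}} {ι : Type u} {Y : ι → Scheme.{u}} (j : ∀ a, Y a ⟶ X)
    [∀ a, IsOpenImmersion (j a)] (_ : ∀ x : X, ∃ a, x ∈ Set.range (j a).base) {M N : X.Modules} (f : M ⟶ N),
    P f ↔ ∀ a, P ((Scheme.Modules.restrictFunctor (j a)).map f)
  tilde : ∀ {A : Type u} [CommRing A] {B : CommRingCat.{u}} (φ : A →+* B) {M N : ModuleCat.{u} A} (d : M ⟶ N),
    letI := φ.toAlgebra
    P (tilde.map ((ModuleCat.extendScalars.{_, _, u} φ).map d)) ↔ Q A B d.hom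
  pullback : ∀ {X Y : Scheme.{u}} (φ : X ⟶ Y) {M N : Y.Modules} (f : M ⟶ N),
    P f → P ((Scheme.Modules.pullback φ).map f)

omit [IsCofiltered I] [∀ {i j : I} (f : i ⟶ j), IsAffineHom (D.map f)] in
/-- The property in terms of an affine cover. -/
theorem ChartProp.iff_cover (Z : ChartProp.{u}) {X X' : Scheme.{u}} (φ : X' ⟶ X) [IsAffineHom φ] {ι : Type u}
    (U : ι → X.affineOpens) (hU : ∀ x : X, ∃ a, x ∈ (U a).1) {M N : X.Modules} (hM : Coh.IsQCoh M)
    (hN : Coh.IsQCoh N) (d : M ⟶ N) :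
    Z.P ((Scheme.Modules.pullback φ).map d) ↔ ∀ a,
      letI := (φ.appLE (U a).1 (φ ⁻¹ᵁ (U a).1) le_rfl).hom.toAlgebra
      Z.Q Γ(X, (U a).1) Γ(X', φ ⁻¹ᵁ (U a).1) ((chartΓ (U a).2).map d).hom := by
  rw [Z.restrict (fun a => ((U a).2.preimage φ).fromSpec) fun x => by
    obtain ⟨a, ha⟩ := hU (φ x)
    refine ⟨a, ?_⟩
    rw [IsAffineOpen.range_fromSpec]
    exact ha]
  refine forall_congr' fun a => ?_
  obtain ⟨e⟩ := nonempty_arrowIso φ (U a).2 ((U a).2.preimage φ) le_rfl hM hN d
  exact (Z.iso _ _ e).trans (Z.tilde _ _)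

include hc in
/-- Descent of a chart property from descent of its algebraic form. -/
theorem ChartProp.iff_eventually (Z : ChartProp.{u}) [CompactSpace (D.obj i)] {M N : (D.obj i).Modules}
    (hM : Coh.IsQCoh M) (hN : Coh.IsQCoh N) (d : M ⟶ N)
    (hdesc : ∀ (U : (D.obj i).affineOpens) (_C : AlgColim Γ(D.obj i, U.1) (Over i)
      (fun j => Γ(D.obj j.left, stage U.1 j)) Γ(c.pt, limOpen c U.1)),
      Z.Q Γ(D.obj i, U.1) Γ(c.pt, limOpen c U.1) ((chartΓ U.2).map d).hom →
        ∃ j : Over i, Z.Q Γ(D.obj i, U.1) Γ(D.obj j.left, stage U.1 j) ((chartΓ U.2).map d).hom)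
    (hlater : ∀ (U : (D.obj i).affineOpens) (_C : AlgColim Γ(D.obj i, U.1) (Over i)
      (fun j => Γ(D.obj j.left, stage U.1 j)) Γ(c.pt, limOpen c U.1)) (j k : Over i), (k ⟶ j) →
        Z.Q Γ(D.obj i, U.1) Γ(D.obj j.left, stage U.1 j) ((chartΓ U.2).map d).hom →
        Z.Q Γ(D.obj i, U.1) Γ(D.obj k.left, stage U.1 k) ((chartΓ U.2).map d).hom) :
    Z.P ((Scheme.Modules.pullback (c.π.app i)).map d) ↔
      ∃ (j : I) (φ : j ⟶ i), Z.P ((Scheme.Modules.pullback (D.map φ)).map d) := by
  classical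
  constructor
  · intro h
    obtain ⟨s, hs⟩ := CompactSpace.elim_nhds_subcover
      (fun x : D.obj i => ((exists_isAffineOpen_mem_and_subset (U := ⊤) (show x ∈ (⊤ : (D.obj i).Opens) from trivial)).choose : Set (D.obj i)))
      (fun x => (exists_isAffineOpen_mem_and_subset (U := ⊤) (show x ∈ (⊤ : (D.obj i).Opens) from trivial)).choose.2.mem_nhds
        (exists_isAffineOpen_mem_and_subset (U := ⊤) (show x ∈ (⊤ : (D.obj i).Opens) from trivial)).choose_spec.2.1)
    let U : s → (D.obj i).affineOpens := fun x =>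
      ⟨_, (exists_isAffineOpen_mem_and_subset (U := ⊤) (show x.1 ∈ (⊤ : (D.obj i).Opens) from trivial)).choose_spec.1⟩
    have hU : ∀ y : D.obj i, ∃ a, y ∈ (U a).1 := fun y => by
      obtain ⟨x, hx, hy⟩ := Set.mem_iUnion₂.1 (hs.ge (Set.mem_univ y))
      exact ⟨⟨x, hx⟩, hy⟩
    haveI : IsAffineHom (c.π.app i) := isAffineHom_π_app D c hc i
    have hq := (Z.iff_cover (c.π.app i) U hU hM hN d).1 h
    let C := fun a => (nonempty_algColim hc (U a).2).some
    choose j hj using fun a => hdesc (U a) (C a) (hq a)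
    obtain ⟨k, hk⟩ := IsCofiltered.inf_objs_exists (Finset.univ.image j)
    refine ⟨k.left, k.hom, (Z.iff_cover (D.map k.hom) U hU hM hN d).2 fun a => ?_⟩
    exact hlater (U a) (C a) (j a) k (hk (Finset.mem_image_of_mem j (Finset.mem_univ a))).some (hj a)
  · rintro ⟨j, φ, h⟩
    let e := Scheme.Modules.pullbackComp (c.π.app j) (D.map φ) ≪≫ Scheme.Modules.pullbackCongr (c.w φ)
    exact (Z.iso _ _ (Arrow.isoMk (e.app M) (e.app N) (e.hom.naturality d).symm)).1
      (Z.pullback (c.π.app j) _ h)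

end Groth.Agent.LimModLib
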