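import Groth.Agent.LimModLib.Limit
import Groth.Agent.LimModLib.AlgHom
import Groth.Agent.ExistEasy.PP.PullSec

/-!
# Sections of pullbacks to the stages of a limit
-/

set_option autoImplicit false
set_option backward.isDefEq.respectTransparency false
set_option backward.isDefEq.respectTransparency.types false

universe u

open CategoryTheory CategoryTheory.Limits AlgebraicGeometry Opposite TopologicalSpace
open scoped TensorProduct

namespace Groth.Agent.LimModLib

open QCoh (pullSec)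

variable {X Y Z : Scheme.{u}}

open Groth.Agent.ExistEasy (pullSec_natural pullSec_res pullSec_congr pullSec_comp)

/-- The map on sections of pullbacks induced by a morphism over the base. -/
noncomputable def trans' (G : Z.Modules) {b : Y ⟶ Z} {b' : X ⟶ Z} (a : X ⟶ Y) (e : a ≫ b = b') {W : Y.Opens}
    {W' : X.Opens} (h : W' ≤ a ⁻¹ᵁ W) :
    Γ((Scheme.Modules.pullback b).obj G, W) →+ Γ((Scheme.Modules.pullback b').obj G, W') :=
  AddMonoidHom.mk'
    (fun y => ((Scheme.Modules.pullbackCongr e).hom.app G).app W'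
      (((Scheme.Modules.pullbackComp a b).hom.app G).app W'
        (pullSec a ((Scheme.Modules.pullback b).obj G) h y)))
    fun y y' => by rw [QCoh.pullSec_add, map_add, map_add]

theorem trans'_smul (G : Z.Modules) {b : Y ⟶ Z} {b' : X ⟶ Z} (a : X ⟶ Y) (e : a ≫ b = b') {W : Y.Opens}
    {W' : X.Opens} (h : W' ≤ a ⁻¹ᵁ W) (r : Γ(Y, W)) (y : Γ((Scheme.Modules.pullback b).obj G, W)) :
    trans' G a e h (r • y) = a.appLE W W' h r • trans' G a e h y := by
  show ((Scheme.Modules.pullbackCongr e).hom.app G).app W'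
    (((Scheme.Modules.pullbackComp a b).hom.app G).app W' (pullSec a _ h (r • y))) = _
  rw [QCoh.pullSec_smul, Scheme.Modules.Hom.app_smul, Scheme.Modules.Hom.app_smul]
  rfl

theorem trans'_pullSec (G : Z.Modules) {b : Y ⟶ Z} {b' : X ⟶ Z} (a : X ⟶ Y) (e : a ≫ b = b') {W : Y.Opens}
    {W' : X.Opens} {V : Z.Opens} (hV : W ≤ b ⁻¹ᵁ V) (h : W' ≤ a ⁻¹ᵁ W) (hV' : W' ≤ b' ⁻¹ᵁ V) (x : Γ(G, V)) :
    trans' G a e h (pullSec b G hV x) = pullSec b' G hV' x := by
  refine Eq.trans ?_ (pullSec_congr e G (h.trans ((Opens.map a.base).monotone hV)) x)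
  show ((Scheme.Modules.pullbackCongr e).hom.app G).app W'
    (((Scheme.Modules.pullbackComp a b).hom.app G).app W' _) = _
  rw [pullSec_comp]

theorem trans'_res (G : Z.Modules) {b : Y ⟶ Z} {b' : X ⟶ Z} (a : X ⟶ Y) (e : a ≫ b = b') {W V : Y.Opens}
    {W' V' : X.Opens} (h : W' ≤ a ⁻¹ᵁ W) (h₁ : V ≤ W) (h₁' : V' ≤ W') (h' : V' ≤ a ⁻¹ᵁ V)
    (y : Γ((Scheme.Modules.pullback b).obj G, W)) :
    ((Scheme.Modules.pullback b').obj G).presheaf.map (homOfLE h₁').op (trans' G a e h y) =
      trans' G a e h' (((Scheme.Modules.pullback b).obj G).presheaf.map (homOfLE h₁).op y) := by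
  show ((Scheme.Modules.pullback b').obj G).presheaf.map (homOfLE h₁').op
      (((Scheme.Modules.pullbackCongr e).hom.app G).app W'
        (((Scheme.Modules.pullbackComp a b).hom.app G).app W' (pullSec a _ h y))) =
    ((Scheme.Modules.pullbackCongr e).hom.app G).app V'
      (((Scheme.Modules.pullbackComp a b).hom.app G).app V' (pullSec a _ h' _))
  rw [← QCoh.map_app_comm, ← QCoh.map_app_comm]
  exact congrArg (fun z => ((Scheme.Modules.pullbackCongr e).hom.app G).app V'
    (((Scheme.Modules.pullbackComp a b).hom.app G).app V' z)) (pullSec_res a _ h₁ h₁' h h' y)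

section Equiv

variable (b : Y ⟶ Z) {V : Z.Opens} {W : Y.Opens} (hle : W ≤ b ⁻¹ᵁ V) [Algebra Γ(Z, V) Γ(Y, W)]
  (halg : ∀ r, algebraMap Γ(Z, V) Γ(Y, W) r = b.appLE V W hle r)

/-- Sections of a pullback over an affine as a tensor product. -/
theorem exists_secEquiv (hV : IsAffineOpen V) (hW : IsAffineOpen W) {G : Z.Modules} (hG : Coh.IsQCoh G)
    (halg : ∀ r, algebraMap Γ(Z, V) Γ(Y, W) r = b.appLE V W hle r) :
    ∃ E : Γ(Y, W) ⊗[Γ(Z, V)] Γ(G, V) ≃+ Γ((Scheme.Modules.pullback b).obj G, W),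
      ∀ r x, E (r ⊗ₜ x) = r • pullSec b G hle x := by
  let N := (Scheme.Modules.pullback b).obj G
  letI : Module Γ(Z, V) Γ(N, W) := Module.compHom _ (algebraMap Γ(Z, V) Γ(Y, W))
  haveI : IsScalarTower Γ(Z, V) Γ(Y, W) Γ(N, W) := IsScalarTower.of_algebraMap_smul fun _ _ => rfl
  let l : Γ(G, V) →ₗ[Γ(Z, V)] Γ(N, W) :=
    { toFun := pullSec b G hle
      map_add' := QCoh.pullSec_add b G hle
      map_smul' := fun r x => by
        rw [QCoh.pullSec_smul, ← halg]
        rfl }
  have hbc := QCoh.isBaseChange_pullback hV b hW hG hle halg l fun _ => rfl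
  exact ⟨hbc.equiv.toAddEquiv, fun r x => hbc.equiv_tmul r x⟩

end Equiv

end Groth.Agent.LimModLib
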