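import Groth.Agent.LimModLib.Stage
import Groth.Agent.LimModLib.LHom

/-!
# Direct images of the pullbacks to the stages
-/

set_option autoImplicit false
set_option backward.isDefEq.respectTransparency false
set_option backward.isDefEq.respectTransparency.types false

universe u

open CategoryTheory CategoryTheory.Limits AlgebraicGeometry Opposite TopologicalSpace
open scoped TensorProduct

namespace Groth.Agent.LimModLib

open QCoh (pullSec)

variable {X Y Y' : Scheme.{u}} (G : X.Modules)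

/-- The direct image of the inverse image. -/
noncomputable abbrev PP (b : Y ⟶ X) : X.Modules :=
  (Scheme.Modules.pushforward b).obj ((Scheme.Modules.pullback b).obj G)

variable {b : Y ⟶ X} {b' : Y' ⟶ X} (a : Y' ⟶ Y) (e : a ≫ b = b')

include e in
theorem preimage_le (V : X.Opens) : b' ⁻¹ᵁ V ≤ a ⁻¹ᵁ b ⁻¹ᵁ V := by
  rw [← Scheme.Hom.comp_preimage, e]

/-- The transition map between direct images of inverse images. -/
noncomputable def tr (V : X.Opens) : Γ(PP G b, V) →+ Γ(PP G b', V) :=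
  trans' G a e (preimage_le a e V)

theorem tr_smul (V : X.Opens) (r : Γ(X, V)) (y : Γ(PP G b, V)) : tr G a e V (r • y) = r • tr G a e V y := by
  show trans' G a e (preimage_le a e V) (b.app V r • (show Γ((Scheme.Modules.pullback b).obj G, b ⁻¹ᵁ V) from y)) =
    b'.app V r • (show Γ((Scheme.Modules.pullback b').obj G, b' ⁻¹ᵁ V) from tr G a e V y)
  rw [trans'_smul]
  refine congrArg (· • trans' G a e (preimage_le a e V) y) ?_
  show (b.app V ≫ a.appLE _ _ _) r = b'.app V r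
  rw [Scheme.Hom.app_eq_appLE, Scheme.Hom.appLE_comp_appLE, Scheme.Hom.app_eq_appLE, appLE_congr' e]

theorem tr_res (V W : X.Opens) (h : W ≤ V) (y : Γ(PP G b, V)) :
    (PP G b').presheaf.map (homOfLE h).op (tr G a e V y) = tr G a e W ((PP G b).presheaf.map (homOfLE h).op y) :=
  trans'_res G a e (preimage_le a e V) (Scheme.Hom.preimage_mono b h) (Scheme.Hom.preimage_mono b' h)
    (preimage_le a e W) y

theorem tr_pullSec {V : X.Opens} (x : Γ(G, V)) :
    tr G a e V (pullSec b G le_rfl x) = pullSec b' G le_rfl x :=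
  trans'_pullSec G a e le_rfl (preimage_le a e V) le_rfl x

variable {V : X.Opens} [Algebra Γ(X, V) Γ(Y, b ⁻¹ᵁ V)] [Algebra Γ(X, V) Γ(Y', b' ⁻¹ᵁ V)]

omit e in
/-- Sections of the direct image over an affine. -/
theorem exists_ppEquiv (hb : IsAffineHom b) (hV : IsAffineOpen V) (hG : Coh.IsQCoh G)
    (halg : ∀ r, algebraMap Γ(X, V) Γ(Y, b ⁻¹ᵁ V) r = b.appLE V (b ⁻¹ᵁ V) le_rfl r) :
    ∃ E : Γ(Y, b ⁻¹ᵁ V) ⊗[Γ(X, V)] Γ(G, V) ≃+ Γ(PP G b, V),
      (∀ r x, E (r ⊗ₜ x) =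
        r • (show Γ((Scheme.Modules.pullback b).obj G, b ⁻¹ᵁ V) from pullSec b G le_rfl x)) ∧
      ∀ (s : Γ(X, V)) t, E (s • t) = s • E t := by
  obtain ⟨E, hE⟩ := exists_secEquiv b (le_refl (b ⁻¹ᵁ V)) hV (hV.preimage b) hG halg
  refine ⟨E, hE, fun s t => ?_⟩
  induction t with
  | zero => rw [smul_zero, map_zero, smul_zero]
  | tmul r x =>
    show E (s • r ⊗ₜ x) = b.app V s • (show Γ((Scheme.Modules.pullback b).obj G, b ⁻¹ᵁ V) from E (r ⊗ₜ x))
    rw [TensorProduct.smul_tmul', hE, hE, smul_smul, Algebra.smul_def, halg, Scheme.Hom.app_eq_appLE]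
  | add x y hx hy => rw [smul_add, map_add, map_add, smul_add, hx, hy]

/-- The transition map is the base change of the map on rings. -/
theorem tr_equiv (E : Γ(Y, b ⁻¹ᵁ V) ⊗[Γ(X, V)] Γ(G, V) ≃+ Γ(PP G b, V))
    (hE : ∀ r x, E (r ⊗ₜ x) = r • (show Γ((Scheme.Modules.pullback b).obj G, b ⁻¹ᵁ V) from pullSec b G le_rfl x))
    (E' : Γ(Y', b' ⁻¹ᵁ V) ⊗[Γ(X, V)] Γ(G, V) ≃+ Γ(PP G b', V))
    (hE' : ∀ r x, E' (r ⊗ₜ x) =
      r • (show Γ((Scheme.Modules.pullback b').obj G, b' ⁻¹ᵁ V) from pullSec b' G le_rfl x))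
    (φ : Γ(Y, b ⁻¹ᵁ V) →ₐ[Γ(X, V)] Γ(Y', b' ⁻¹ᵁ V))
    (hφ : ∀ x, φ x = a.appLE (b ⁻¹ᵁ V) (b' ⁻¹ᵁ V) (preimage_le a e V) x) (t : Γ(Y, b ⁻¹ᵁ V) ⊗[Γ(X, V)] Γ(G, V)) :
    tr G a e V (E t) = E' (φ.toLinearMap.rTensor _ t) := by
  induction t with
  | zero => rw [map_zero, map_zero, map_zero]; exact (map_zero E').symm
  | tmul r x =>
    rw [LinearMap.rTensor_tmul, hE', hE]
    show trans' G a e (preimage_le a e V) (r • pullSec b G le_rfl x) = φ r • _
    rw [trans'_smul, hφ]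
    exact congrArg (_ • ·) (tr_pullSec G a e x)
  | add x y hx hy =>
    rw [map_add, map_add, hx, hy, map_add]
    exact (map_add E' _ _).symm

end Groth.Agent.LimModLib
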